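import Groth.Agent.Hensel.TensorStrict
import Groth.Agent.Hensel.IntegralStrict
import Groth.Agent.FormCat.Unibranch
import Groth.Agent.NeronHDLib.IntClosureNormal
import Groth.Prelude.Def_CAlg2
import Mathlib.RingTheory.Flat.Basic
import Mathlib.RingTheory.IntegralClosure.IntegrallyClosed

/-!
# Unibranch local algebras over henselian domains
-/

set_option autoImplicit false
set_option linter.style.haveILetI false

universe u

namespace Groth.Agent.H1Branch

open IsLocalRing TensorProduct

/-- `R → C` preserves normality after base change. -/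
def PreservesNormal (R C : Type u) [CommRing R] [CommRing C] [Algebra R C] : Prop :=
  ∀ (N : Type u) [CommRing N] [Algebra R N], EGA4.IsNormalRing N → EGA4.IsNormalRing (N ⊗[R] C)

theorem isIntegrallyClosed_of_isNormalRing_local (T : Type u) [CommRing T] [IsLocalRing T]
    (h : EGA4.IsNormalRing T) : IsIntegrallyClosed T := by
  obtain ⟨_, hic⟩ := h (maximalIdeal T)
  haveI := hic
  exact IsIntegrallyClosed.of_equiv (R := Localization.AtPrime (maximalIdeal T)) (IsLocalization.atUnits T
    (maximalIdeal T).primeCompl (S := Localization.AtPrime (maximalIdeal T))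
    fun s hs => notMem_maximalIdeal.1 hs).toRingEquiv.symm

/-- Unibranch criterion through a normal local integral birational extension. -/
theorem unibranch_of_normal_extension {C M : Type u} [CommRing C] [IsLocalRing C] [IsDomain C]
    [CommRing M] [IsDomain M] [IsLocalRing M] [IsIntegrallyClosed M] [Algebra C M] [Algebra.IsIntegral C M]
    (hinj : Function.Injective (algebraMap C M))
    (hfrac : ∀ z : M, ∃ c d : C, d ≠ 0 ∧ algebraMap C M d * z = algebraMap C M c) :
    CAlg2.IsUnibranch C ∧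
      ((∀ z : M, ∃ (n : ℕ) (c : C), z ^ ringExpChar (ResidueField C) ^ n - algebraMap C M c ∈ maximalIdeal M) →
        CAlg2.IsGeomUnibranch C) := by
  have h0 : nilradical C = ⊥ := nilradical_eq_zero C
  haveI : (nilradical C).IsPrime := h0 ▸ Ideal.bot_prime
  letI : Algebra (CAlg2.red C) M := (Ideal.Quotient.lift (nilradical C) (algebraMap C M) fun a ha => by
    rw [h0, Ideal.mem_bot] at ha
    rw [ha, map_zero]).toAlgebra
  haveI : IsScalarTower C (CAlg2.red C) M := .of_algebraMap_eq fun _ => rfl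
  haveI : Algebra.IsIntegral (CAlg2.red C) M := Algebra.IsIntegral.tower_top (R := C)
  let L := FractionRing M
  haveI : IsScalarTower (CAlg2.red C) M L := inferInstance
  have hinjD : Function.Injective (algebraMap (CAlg2.red C) M) := by
    intro a b hab
    obtain ⟨a, rfl⟩ := Ideal.Quotient.mk_surjective a
    obtain ⟨b, rfl⟩ := Ideal.Quotient.mk_surjective b
    rw [hinj (show algebraMap C M a = algebraMap C M b from hab)]
  have hinjL : Function.Injective (algebraMap (CAlg2.red C) L) :=
    (IsFractionRing.injective M L).comp hinjD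
  haveI : IsFractionRing (CAlg2.red C) L := by
    haveI : FaithfulSMul (CAlg2.red C) L := (faithfulSMul_iff_algebraMap_injective _ _).2 hinjL
    refine IsFractionRing.of_field _ _ fun z => ?_
    obtain ⟨m₁, m₂, hm₂, rfl⟩ := IsFractionRing.div_surjective (A := M) z
    obtain ⟨c₁, d₁, hd₁, h₁⟩ := hfrac m₁
    obtain ⟨c₂, d₂, hd₂, h₂⟩ := hfrac m₂
    refine ⟨Ideal.Quotient.mk _ (c₁ * d₂), Ideal.Quotient.mk _ (c₂ * d₁), ?_⟩
    have hne : ∀ d : C, d ≠ 0 → algebraMap M L (algebraMap C M d) ≠ 0 := fun d hd h =>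
      hd (hinj ((IsFractionRing.injective M L (h.trans (map_zero _).symm)).trans (map_zero _).symm))
    have hm₂' : algebraMap M L m₂ ≠ 0 := IsFractionRing.to_map_ne_zero_of_mem_nonZeroDivisors hm₂
    have hc₂ : algebraMap M L (algebraMap C M c₂) ≠ 0 := by
      rw [← h₂, map_mul]
      exact mul_ne_zero (hne _ hd₂) hm₂'
    show _ = algebraMap M L (algebraMap C M (c₁ * d₂)) / algebraMap M L (algebraMap C M (c₂ * d₁))
    symm
    rw [div_eq_div_iff (by rw [map_mul, map_mul]; exact mul_ne_zero hc₂ (hne _ hd₁)) hm₂']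
    have e1 := congrArg (algebraMap M L) h₁
    have e2 := congrArg (algebraMap M L) h₂
    simp only [map_mul] at e1 e2 ⊢
    linear_combination (-(algebraMap M L (algebraMap C M d₂) * algebraMap M L m₂)) * e1 +
      (algebraMap M L m₁ * algebraMap M L (algebraMap C M d₁)) * e2
  haveI : IsIntegralClosure M (CAlg2.red C) L := by
    refine ⟨IsFractionRing.injective M L, fun {x} => ⟨fun hx => ?_, ?_⟩⟩
    · exact IsIntegrallyClosed.isIntegral_iff.1 hx.tower_top
    · rintro ⟨y, rfl⟩
      exact (Algebra.IsIntegral.isIntegral y).algebraMap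
  let F := FractionRing (CAlg2.red C)
  let eF : F ≃ₐ[CAlg2.red C] L := IsLocalization.algEquiv (nonZeroDivisors (CAlg2.red C)) F L
  let e : CAlg2.normRed C ≃ₐ[CAlg2.red C] M :=
    (AlgEquiv.mapIntegralClosure eF).trans
      (IsIntegralClosure.equiv (CAlg2.red C) (integralClosure (CAlg2.red C) L) L M)
  haveI hloc : IsLocalRing (CAlg2.normRed C) :=
    e.symm.toRingEquiv.isLocalRing
  have huni : CAlg2.IsUnibranch C := ⟨(Ideal.Quotient.isDomain_iff_prime _).2 inferInstance, hloc⟩
  refine ⟨huni, fun hres => ⟨huni, fun m' hm' x => ?_⟩⟩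
  obtain rfl : m' = maximalIdeal (CAlg2.normRed C) := IsLocalRing.eq_maximalIdeal hm'
  obtain ⟨x, rfl⟩ := Ideal.Quotient.mk_surjective x
  obtain ⟨n, c, hc⟩ := hres (e x)
  let φ : C →+* CAlg2.normRed C :=
    (algebraMap (CAlg2.red C) (CAlg2.normRed C)).comp (Ideal.Quotient.mk (nilradical C))
  have hφ : ∀ d, e (φ d) = algebraMap C M d := fun d => e.commutes _
  have hlocφ : ∀ d ∈ maximalIdeal C, φ d ∈ maximalIdeal (CAlg2.normRed C) := fun d hd hu => by
    have h := hu.map e
    rw [hφ] at h
    haveI := Groth.Agent.Hensel.isLocalHom_of_isIntegral_local C M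
    exact hd (isUnit_of_map_unit (algebraMap C M) d h)
  let ν : ResidueField C →+* CAlg2.normRed C ⧸ maximalIdeal (CAlg2.normRed C) :=
    Ideal.Quotient.lift (maximalIdeal C) ((Ideal.Quotient.mk _).comp φ) fun d hd =>
      Ideal.Quotient.eq_zero_iff_mem.2 (hlocφ d hd)
  haveI := ringExpChar.expChar (ResidueField C)
  haveI : Nontrivial (CAlg2.normRed C ⧸ maximalIdeal (CAlg2.normRed C)) :=
    Ideal.Quotient.nontrivial_iff.2 (maximalIdeal.isMaximal _).ne_top
  haveI : ExpChar (CAlg2.normRed C ⧸ maximalIdeal (CAlg2.normRed C)) (ringExpChar (ResidueField C)) :=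
    expChar_of_injective_ringHom ν.injective _
  refine ⟨n, c, ?_⟩
  rw [ringExpChar.eq _ (ringExpChar (ResidueField C)), ← map_pow]
  refine (Ideal.Quotient.eq.2 fun hu => ?_).symm
  refine hc ?_
  have := hu.map e
  rw [map_sub, map_pow] at this
  exact (hφ c) ▸ this

theorem frob_add {T k : Type u} [CommRing T] [Field k] (M : Ideal T) [hM : M.IsMaximal] (ν : k →+* T ⧸ M)
    (q : ℕ) [ExpChar k q] {u v a b : T} {n m : ℕ} (hu : u ^ q ^ n - a ∈ M) (hv : v ^ q ^ m - b ∈ M) :
    (u + v) ^ q ^ (n + m) - (a ^ q ^ m + b ^ q ^ n) ∈ M := by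
  letI := Ideal.Quotient.field M
  haveI : ExpChar (T ⧸ M) q := expChar_of_injective_ringHom ν.injective q
  have ha' := Ideal.Quotient.eq.2 hu
  have hb' := Ideal.Quotient.eq.2 hv
  rw [map_pow] at ha' hb'
  rw [← Ideal.Quotient.eq, map_pow, map_add, add_pow_expChar_pow]
  simp only [map_add, map_pow, ← ha', ← hb', ← pow_mul, ← pow_add, add_comm m n]

theorem frob_add_incl {R N T : Type u} [CommRing R] [IsLocalRing R] [CommRing N] [Algebra R N] [CommRing T]
    (M : Ideal T) [M.IsMaximal] (incl : N →+* T) (q : ℕ) [ExpChar (ResidueField R) q]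
    (hzero : ∀ r ∈ maximalIdeal R, incl (algebraMap R N r) ∈ M) {u v a b : T} {n m : ℕ}
    (hu : u ^ q ^ n - a ∈ M) (hv : v ^ q ^ m - b ∈ M) :
    (u + v) ^ q ^ (n + m) - (a ^ q ^ m + b ^ q ^ n) ∈ M :=
  frob_add (k := ResidueField R) M
    (Ideal.Quotient.lift (maximalIdeal R) (((Ideal.Quotient.mk M).comp incl).comp (algebraMap R N))
      fun r hr => Ideal.Quotient.eq_zero_iff_mem.2 (hzero r hr)) q hu hv

theorem isLocalRing_of_pow_sub_mem {N T : Type u} [CommRing N] [CommRing T] [Nontrivial T] (q : ℕ) (hq : 0 < q)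
    (incl : N →+* T) (P : Ideal N) (hcomap : ∀ (M : Ideal T) [M.IsMaximal], M.comap incl = P)
    (key : ∀ x : T, ∃ (n : ℕ) (a : N), ∀ (M : Ideal T) [M.IsMaximal], x ^ q ^ n - incl a ∈ M) :
    IsLocalRing T := by
  obtain ⟨M₀, hM₀⟩ := Ideal.exists_maximal T
  refine IsLocalRing.of_unique_max_ideal ⟨M₀, hM₀, fun M hM => ?_⟩
  have key' : ∀ (M₁ M₂ : Ideal T), M₁.IsMaximal → M₂.IsMaximal → M₁ ≤ M₂ := by
    intro M₁ M₂ h₁ h₂ x hx
    obtain ⟨n, a, ha⟩ := key x
    have ha₁ : a ∈ M₁.comap incl := by
      have := M₁.sub_mem (M₁.pow_mem_of_mem hx _ (pow_pos hq n)) (ha M₁)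
      rwa [sub_sub_cancel] at this
    rw [hcomap M₁, ← hcomap M₂] at ha₁
    refine h₂.isPrime.mem_of_pow_mem (q ^ n) ?_
    have := M₂.add_mem (ha M₂) ha₁
    rwa [sub_add_cancel] at this
  exact le_antisymm (key' M M₀ hM hM₀) (key' M₀ M hM₀ hM)

variable (R C : Type u) [CommRing R] [IsDomain R] [HenselianLocalRing R] [CommRing C] [IsLocalRing C]
  [Algebra R C] [IsLocalHom (algebraMap R C)] [Module.Flat R C]

/-- The normalization of `R`. -/
abbrev Norm : Type u := integralClosure R (FractionRing R)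

theorem isNormalRing_norm : EGA4.IsNormalRing (Norm R) := by
  haveI : IsIntegrallyClosed (Norm R) :=
    integralClosure.isIntegrallyClosedOfFiniteExtension (FractionRing R)
  exact Groth.Agent.NeronHDLib.isNormalRing_of_isIntegrallyClosed _

theorem branch_aux (hnorm : PreservesNormal R C) (hloc : IsLocalRing (Norm R ⊗[R] C)) :
    IsDomain C ∧ CAlg2.IsUnibranch C ∧
      ((∀ z : Norm R ⊗[R] C, ∃ (n : ℕ) (c : C), z ^ ringExpChar (ResidueField C) ^ n -
          (1 : Norm R) ⊗ₜ[R] c ∈ maximalIdeal (Norm R ⊗[R] C)) → CAlg2.IsGeomUnibranch C) := by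
  letI : Algebra C (Norm R ⊗[R] C) := Algebra.TensorProduct.rightAlgebra
  have hM := hnorm (Norm R) (isNormalRing_norm R)
  haveI := Groth.Agent.FormCat.isDomain_of_isNormalRing_local _ hM
  haveI : IsIntegrallyClosed (Norm R ⊗[R] C) := isIntegrallyClosed_of_isNormalRing_local _ hM
  haveI : Algebra.IsIntegral C (Norm R ⊗[R] C) :=
    ⟨fun x => Groth.Agent.Hensel.isIntegral_includeRight R (Norm R) C x⟩
  have hRN : Function.Injective (algebraMap R (Norm R)) := fun a b h =>
    IsFractionRing.injective R (FractionRing R) (congrArg Subtype.val h)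
  have hinj : Function.Injective (algebraMap C (Norm R ⊗[R] C)) :=
    Algebra.TensorProduct.includeRight_injective hRN
  haveI : IsDomain C := hinj.isDomain _
  have hRC : Function.Injective (algebraMap R C) := by
    haveI : Module.FaithfullyFlat R C := Module.FaithfullyFlat.of_flat_of_isLocalHom
    exact FaithfulSMul.algebraMap_injective R C
  have hfrac : ∀ z : Norm R ⊗[R] C, ∃ c d : C, d ≠ 0 ∧
      algebraMap C (Norm R ⊗[R] C) d * z = algebraMap C (Norm R ⊗[R] C) c := by
    intro z
    suffices h : ∃ r : R, r ≠ 0 ∧ ∃ c : C, algebraMap C (Norm R ⊗[R] C) (algebraMap R C r) * z =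
        algebraMap C (Norm R ⊗[R] C) c by
      obtain ⟨r, hr, c, hc⟩ := h
      exact ⟨c, algebraMap R C r, fun h0 => hr (hRC (h0.trans (map_zero _).symm)), hc⟩
    induction z with
    | zero => exact ⟨1, one_ne_zero, 0, by simp⟩
    | tmul x c =>
      obtain ⟨a, b, hb, hab⟩ := IsFractionRing.div_surjective (A := R) (x : FractionRing R)
      have hb0 : b ≠ 0 := nonZeroDivisors.ne_zero hb
      have hbx : algebraMap R (Norm R) b * x = algebraMap R (Norm R) a := Subtype.ext (by
        show algebraMap R (FractionRing R) b * (x : FractionRing R) = algebraMap R (FractionRing R) a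
        rw [← hab, mul_div_cancel₀]
        exact IsFractionRing.to_map_ne_zero_of_mem_nonZeroDivisors hb)
      refine ⟨b, hb0, algebraMap R C a * c, ?_⟩
      show (1 : Norm R) ⊗ₜ[R] algebraMap R C b * x ⊗ₜ[R] c = (1 : Norm R) ⊗ₜ[R] (algebraMap R C a * c)
      rw [Algebra.TensorProduct.tmul_mul_tmul, one_mul, ← Algebra.smul_def, ← Algebra.smul_def,
        ← TensorProduct.smul_tmul, ← TensorProduct.smul_tmul, Algebra.smul_def, hbx, Algebra.smul_def, mul_one]
    | add u v hu hv =>
      obtain ⟨r, hr, c, hc⟩ := hu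
      obtain ⟨r', hr', c', hc'⟩ := hv
      refine ⟨r * r', mul_ne_zero hr hr', algebraMap R C r' * c + algebraMap R C r * c', ?_⟩
      simp only [map_mul, map_add, ← hc, ← hc']
      ring
  obtain ⟨h1, h2⟩ := unibranch_of_normal_extension (C := C) (M := Norm R ⊗[R] C) hinj hfrac
  exact ⟨inferInstance, h1, h2⟩

/-- Over a strictly henselian domain such an algebra is a geometrically unibranch domain. -/
theorem geomUnibranch [IsSepClosed (ResidueField R)] (hnorm : PreservesNormal R C) :
    IsDomain C ∧ CAlg2.IsGeomUnibranch C := by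
  haveI : IsLocalRing (Norm R) := Groth.Agent.Hensel.isLocalRing_of_isIntegral_domain R _
  haveI := Groth.Agent.Hensel.isLocalHom_of_isIntegral_local R (Norm R)
  have hpi := (Groth.Agent.Hensel.residueField_of_isIntegral R (Norm R)).2
  haveI : IsPurelyInseparable (ResidueField R) (ResidueField (Norm R)) := by
    convert hpi using 2
    exact Algebra.algebra_ext _ _ fun x => by obtain ⟨r, rfl⟩ := residue_surjective x; rfl
  haveI hloc := Groth.Agent.Hensel.isLocalRing_tensor R (Norm R) C
  obtain ⟨h0, -, h2⟩ := branch_aux R C hnorm hloc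
  refine ⟨h0, h2 fun z => ?_⟩
  obtain ⟨n, b, hb⟩ := Groth.Agent.Hensel.exists_pow_sub_mem R (Norm R) C z
  exact ⟨n, b, Groth.Agent.Hensel.tensorMax_le R (Norm R) C (maximalIdeal _) hb⟩

/-- A tensor product is local when the second factor has purely inseparable residue extension. -/
theorem isLocalRing_tensor' (R N C : Type u) [CommRing R] [IsLocalRing R] [CommRing N] [IsLocalRing N]
    [Algebra R N] [IsLocalHom (algebraMap R N)] [Algebra.IsIntegral R N] [CommRing C] [IsLocalRing C]
    [Algebra R C] [IsLocalHom (algebraMap R C)] [Nontrivial (N ⊗[R] C)]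
    (hpi : ∀ c : C, ∃ (n : ℕ) (r : R), c ^ ringExpChar (ResidueField R) ^ n - algebraMap R C r ∈ maximalIdeal C) :
    IsLocalRing (N ⊗[R] C) := by
  let q := ringExpChar (ResidueField R)
  haveI := ringExpChar.expChar (ResidueField R)
  have hle := Groth.Agent.Hensel.tensorMax_le R (N) C
  let incl : N →+* N ⊗[R] C := (Algebra.TensorProduct.includeLeft : N →ₐ[R] N ⊗[R] C).toRingHom
  have hcomap : ∀ (M : Ideal (N ⊗[R] C)) [M.IsMaximal], M.comap incl = maximalIdeal (N) := fun M hM => by
    refine ((maximalIdeal.isMaximal (N)).eq_of_le (Ideal.comap_ne_top _ hM.ne_top) ?_).symm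
    exact Ideal.map_le_iff_le_comap.1 (le_sup_left.trans (hle M))
  have key : ∀ x : N ⊗[R] C, ∃ (n : ℕ) (a : N), ∀ (M : Ideal (N ⊗[R] C)) [M.IsMaximal],
      x ^ q ^ n - incl a ∈ M := by
    intro x
    induction x with
    | zero => exact ⟨0, 0, fun M _ => by simp⟩
    | tmul a c =>
      obtain ⟨n, r, hr⟩ := hpi c
      refine ⟨n, a ^ q ^ n * algebraMap R (N) r, fun M hM => ?_⟩
      have h1 : incl (a ^ q ^ n * algebraMap R (N) r) = (a ^ q ^ n) ⊗ₜ[R] algebraMap R C r := by
        show (a ^ q ^ n * algebraMap R (N) r) ⊗ₜ[R] (1 : C) = _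
        rw [mul_comm, ← Algebra.smul_def, TensorProduct.smul_tmul, Algebra.smul_def, mul_one]
      rw [h1, Algebra.TensorProduct.tmul_pow, ← TensorProduct.tmul_sub]
      have h2 : ((1 : N) ⊗ₜ[R] (c ^ q ^ n - algebraMap R C r)) ∈ M :=
        hle M (Ideal.mem_sup_right (Ideal.mem_map_of_mem
          (Algebra.TensorProduct.includeRight : C →ₐ[R] N ⊗[R] C).toRingHom hr))
      have := M.mul_mem_left ((a ^ q ^ n) ⊗ₜ[R] (1 : C)) h2
      rwa [Algebra.TensorProduct.tmul_mul_tmul, mul_one, one_mul] at this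
    | add u v hu hv =>
      obtain ⟨n, a, ha⟩ := hu
      obtain ⟨m, b, hb⟩ := hv
      refine ⟨n + m, a ^ q ^ m + b ^ q ^ n, fun M hM => ?_⟩
      rw [map_add, map_pow, map_pow]
      have hzero : ∀ r ∈ maximalIdeal R, incl (algebraMap R (N) r) ∈ M := fun r hr => by
        show algebraMap R (N) r ∈ M.comap incl
        rw [hcomap M]; exact map_nonunit _ r hr
      exact frob_add_incl M incl q hzero (ha M) (hb M)
  exact isLocalRing_of_pow_sub_mem q (expChar_pos (ResidueField R) q) incl _ hcomap key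

/-- Over a henselian domain such an algebra with purely inseparable residue extension is a unibranch domain. -/
theorem unibranch (hnorm : PreservesNormal R C)
    (hpi : ∀ c : C, ∃ (n : ℕ) (r : R), c ^ ringExpChar (ResidueField R) ^ n - algebraMap R C r ∈ maximalIdeal C) :
    IsDomain C ∧ CAlg2.IsUnibranch C := by
  haveI : IsLocalRing (Norm R) := Groth.Agent.Hensel.isLocalRing_of_isIntegral_domain R _
  haveI := Groth.Agent.Hensel.isLocalHom_of_isIntegral_local R (Norm R)
  haveI : Nontrivial (Norm R ⊗[R] C) :=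
    (Algebra.TensorProduct.includeRight_injective (A := Norm R) (B := C) fun a b h =>
      IsFractionRing.injective R (FractionRing R) (congrArg Subtype.val h)).nontrivial
  have hloc : IsLocalRing (Norm R ⊗[R] C) := isLocalRing_tensor' R (Norm R) C hpi
  obtain ⟨h0, h1, -⟩ := branch_aux R C hnorm hloc
  exact ⟨h0, h1⟩

end Groth.Agent.H1Branch
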