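import Groth.Prelude.Def_Hensel
import Mathlib.RingTheory.TensorProduct.Basic
import Mathlib.RingTheory.LocalRing.ResidueField.Basic
import Mathlib.FieldTheory.IsSepClosed
import Mathlib.FieldTheory.Separable

/-!
# Henselizations along a tower and along a quotient
-/

set_option autoImplicit false
set_option linter.style.haveILetI false

universe u

namespace Groth.Agent.H1Branch

open IsLocalRing

theorem henselianLocalRing_quotient {S : Type u} [CommRing S] [HenselianLocalRing S] (J : Ideal S)
    [IsLocalRing (S ⧸ J)] : HenselianLocalRing (S ⧸ J) := by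
  refine ⟨fun f hf a₀ h₁ h₂ => ?_⟩
  obtain ⟨F, hF, -, hFm⟩ := Polynomial.lifts_and_natDegree_eq_and_monic
    (Polynomial.map_surjective _ Ideal.Quotient.mk_surjective f) hf
  obtain ⟨b, rfl⟩ := Ideal.Quotient.mk_surjective a₀
  subst hF
  rw [Polynomial.eval_map, Polynomial.eval₂_at_apply] at h₁
  rw [Polynomial.derivative_map, Polynomial.eval_map, Polynomial.eval₂_at_apply] at h₂
  have hloc : IsLocalHom (Ideal.Quotient.mk J) := .of_surjective _ Ideal.Quotient.mk_surjective
  obtain ⟨a, ha, hab⟩ := HenselianLocalRing.is_henselian F hFm b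
    (fun hu => h₁ (hu.map _)) (isUnit_of_map_unit (Ideal.Quotient.mk J) _ h₂)
  refine ⟨Ideal.Quotient.mk J a, ?_, ?_⟩
  · rw [Polynomial.IsRoot, Polynomial.eval_map, Polynomial.eval₂_at_apply, ha.eq_zero, map_zero]
  · rw [← map_sub]
    exact fun hu => hab (isUnit_of_map_unit (Ideal.Quotient.mk J) _ hu)

variable {R S : Type u} [CommRing R] [IsLocalRing R] [CommRing S] [IsLocalRing S] [Algebra R S]
  [IsLocalHom (algebraMap R S)]

section Quotient

variable (I : Ideal R) [IsLocalRing (R ⧸ I)] [IsLocalRing (S ⧸ I.map (algebraMap R S))]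
  [IsLocalHom (algebraMap (R ⧸ I) (S ⧸ I.map (algebraMap R S)))]

theorem isHenselization_quotient [h : Hensel.IsHenselization R S] :
    Hensel.IsHenselization (R ⧸ I) (S ⧸ I.map (algebraMap R S)) := by
  haveI := h.henselian
  refine ⟨henselianLocalRing_quotient _, fun T _ _ f hf => ?_⟩
  haveI := hf
  haveI : IsLocalHom (Ideal.Quotient.mk I) := .of_surjective _ Ideal.Quotient.mk_surjective
  obtain ⟨g, hg, huniq⟩ := h.universal T (f.comp (Ideal.Quotient.mk I)) inferInstance
  have hker : ∀ x ∈ I.map (algebraMap R S), g x = 0 := fun x hx => by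
    have : I.map (algebraMap R S) ≤ RingHom.ker g := Ideal.map_le_iff_le_comap.2 fun r hr => by
      rw [Ideal.mem_comap, RingHom.mem_ker, ← RingHom.comp_apply, hg, RingHom.comp_apply,
        Ideal.Quotient.eq_zero_iff_mem.2 hr, map_zero]
    exact this hx
  refine ⟨Ideal.Quotient.lift _ g hker, ?_, fun g' hg' => ?_⟩
  · exact Ideal.Quotient.ringHom_ext (RingHom.ext fun r => (congrArg (fun φ => φ r) hg :))
  · refine Ideal.Quotient.ringHom_ext (RingHom.ext fun s => ?_)
    have : g'.comp (Ideal.Quotient.mk _) = g := huniq _ (RingHom.ext fun r =>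
      (congrArg (fun φ => φ (Ideal.Quotient.mk I r)) hg' :))
    exact (congrArg (fun φ => φ s) this :)

theorem isStrictHenselization_quotient [h : Hensel.IsStrictHenselization R S] :
    Hensel.IsStrictHenselization (R ⧸ I) (S ⧸ I.map (algebraMap R S)) := by
  haveI := h.henselian
  haveI : IsLocalHom (Ideal.Quotient.mk I) := .of_surjective _ Ideal.Quotient.mk_surjective
  haveI : IsLocalHom (Ideal.Quotient.mk (I.map (algebraMap R S))) :=
    .of_surjective _ Ideal.Quotient.mk_surjective
  let eR : ResidueField R ≃+* ResidueField (R ⧸ I) :=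
    RingEquiv.ofBijective (ResidueField.map (Ideal.Quotient.mk I)) ⟨RingHom.injective _, fun z => by
      obtain ⟨a, rfl⟩ := residue_surjective z
      obtain ⟨b, rfl⟩ := Ideal.Quotient.mk_surjective a
      exact ⟨residue R b, rfl⟩⟩
  let eS : ResidueField S ≃+* ResidueField (S ⧸ I.map (algebraMap R S)) :=
    RingEquiv.ofBijective (ResidueField.map (Ideal.Quotient.mk _)) ⟨RingHom.injective _, fun z => by
      obtain ⟨a, rfl⟩ := residue_surjective z
      obtain ⟨b, rfl⟩ := Ideal.Quotient.mk_surjective a
      exact ⟨residue S b, rfl⟩⟩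
  have hcomm : ∀ x, eS (algebraMap (ResidueField R) (ResidueField S) x) =
      algebraMap (ResidueField (R ⧸ I)) (ResidueField (S ⧸ I.map (algebraMap R S))) (eR x) := fun x => by
    obtain ⟨r, rfl⟩ := residue_surjective x
    rfl
  refine ⟨henselianLocalRing_quotient _, ?_, fun T _ _ f _ τ hτ => ?_⟩
  · haveI hsep : Algebra.IsSeparable (ResidueField R) (ResidueField S) := h.isSepClosure.2
    haveI := h.isSepClosure.1
    refine ⟨IsSepClosed.of_exists_root _ fun p hp hirr hsepp => ?_, ?_⟩
    · obtain ⟨x, hx⟩ := IsSepClosed.exists_root (p.map eS.symm.toRingHom)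
        (by rw [Polynomial.degree_map]; exact fun h0 => hirr.not_isUnit (Polynomial.isUnit_iff_degree_eq_zero.2 h0))
        (hsepp.map)
      refine ⟨eS x, ?_⟩
      rw [Polynomial.IsRoot, Polynomial.eval_map, ← eS.symm_apply_apply x] at hx
      erw [Polynomial.eval₂_at_apply] at hx
      exact eS.symm.map_eq_zero_iff.1 hx
    · exact Algebra.IsSeparable.of_equiv_equiv eR eS (RingHom.ext fun x => (hcomm x).symm)
  · obtain ⟨g, ⟨hg, hgr⟩, huniq⟩ := h.universal T (f.comp (Ideal.Quotient.mk I))
      (τ.comp (ResidueField.map (Ideal.Quotient.mk _))) (RingHom.ext fun x => by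
        obtain ⟨r, rfl⟩ := residue_surjective x
        exact (congrArg (fun φ => φ (residue (R ⧸ I) (Ideal.Quotient.mk I r))) hτ :))
    have hker : ∀ x ∈ I.map (algebraMap R S), g x = 0 := fun x hx => by
      have : I.map (algebraMap R S) ≤ RingHom.ker g := Ideal.map_le_iff_le_comap.2 fun r hr => by
        rw [Ideal.mem_comap, RingHom.mem_ker, ← RingHom.comp_apply, hg, RingHom.comp_apply,
          Ideal.Quotient.eq_zero_iff_mem.2 hr, map_zero]
      exact this hx
    refine ⟨Ideal.Quotient.lift _ g hker,
      ⟨Ideal.Quotient.ringHom_ext (RingHom.ext fun r => (congrArg (fun φ => φ r) hg :)), fun x => ?_⟩,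
      fun g' hg' => ?_⟩
    · obtain ⟨s, rfl⟩ := Ideal.Quotient.mk_surjective x
      exact hgr s
    · refine Ideal.Quotient.ringHom_ext (RingHom.ext fun s => ?_)
      have : g'.comp (Ideal.Quotient.mk _) = g := huniq _ ⟨RingHom.ext fun r =>
        (congrArg (fun φ => φ (Ideal.Quotient.mk I r)) hg'.1 :), fun y => hg'.2 _⟩
      exact (congrArg (fun φ => φ s) this :)

end Quotient

section Tower

/- `A → B`, with (strict) henselizations `A'` and `B'`, and an intermediate local ring `C` generated, up to
localization, by `A'` and `B`. -/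
variable {A A' B C B' : Type u} [CommRing A] [IsLocalRing A] [CommRing A'] [IsLocalRing A'] [Algebra A A']
  [IsLocalHom (algebraMap A A')]
  [CommRing B] [IsLocalRing B] [Algebra A B] [IsLocalHom (algebraMap A B)]
  [CommRing C] [IsLocalRing C] [CommRing B'] [IsLocalRing B']
  [Algebra B B'] [IsLocalHom (algebraMap B B')]
  [Algebra C B'] [IsLocalHom (algebraMap C B')]
  (iA : A' →+* C) (iB : B →+* C) [IsLocalHom iA]
  (hcomm : iA.comp (algebraMap A A') = iB.comp (algebraMap A B))
  (hB : (algebraMap C B').comp iB = algebraMap B B')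
  (hgen : ∀ (T : Type u) [CommRing T] (f g : C →+* T), f.comp iA = g.comp iA → f.comp iB = g.comp iB → f = g)

include hcomm hB hgen

theorem isHenselization_tower [hA : Hensel.IsHenselization A A'] [hBB : Hensel.IsHenselization B B'] :
    Hensel.IsHenselization C B' := by
  haveI := hBB.henselian
  haveI : IsLocalHom iB := ⟨fun b hb => isUnit_of_map_unit (algebraMap B B') b (by
    rw [← hB]; exact hb.map (algebraMap C B'))⟩
  refine ⟨hBB.henselian, fun T _ _ f hf => ?_⟩
  haveI := hf
  obtain ⟨g, hg, huniq⟩ := hBB.universal T (f.comp iB) inferInstance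
  refine ⟨g, hgen T _ f ?_ ?_, fun g' hg' => huniq g' ?_⟩
  · obtain ⟨u, -, hu⟩ := hA.universal T ((f.comp iA).comp (algebraMap A A')) inferInstance
    refine (hu _ ?_).trans (hu _ rfl).symm
    show ((g.comp (algebraMap C B')).comp iA).comp (algebraMap A A') = f.comp (iA.comp (algebraMap A A'))
    rw [RingHom.comp_assoc _ iA, hcomm, ← RingHom.comp_assoc, ← RingHom.comp_assoc,
      RingHom.comp_assoc iB (algebraMap C B') g, hB, hg]
  · rw [RingHom.comp_assoc, hB, hg]
  · show g'.comp (algebraMap B B') = f.comp iB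
    rw [← hB, ← RingHom.comp_assoc]
    exact congrArg (fun φ => RingHom.comp φ iB) hg'

theorem isStrictHenselization_tower [hA : Hensel.IsStrictHenselization A A']
    [hBB : Hensel.IsStrictHenselization B B'] : Hensel.IsStrictHenselization C B' := by
  haveI := hBB.henselian
  haveI : IsLocalHom iB := ⟨fun b hb => isUnit_of_map_unit (algebraMap B B') b (by
    rw [← hB]; exact hb.map (algebraMap C B'))⟩
  refine ⟨hBB.henselian, ⟨hBB.isSepClosure.1, ?_⟩, fun T _ _ f _ τ hτ => ?_⟩
  · haveI : Algebra.IsSeparable (ResidueField B) (ResidueField B') := hBB.isSepClosure.2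
    letI : Algebra (ResidueField B) (ResidueField C) := (ResidueField.map iB).toAlgebra
    haveI : IsScalarTower (ResidueField B) (ResidueField C) (ResidueField B') :=
      IsScalarTower.of_algebraMap_eq fun x => by
        obtain ⟨b, rfl⟩ := residue_surjective x
        show residue B' (algebraMap B B' b) = residue B' (algebraMap C B' (iB b))
        rw [← hB]; rfl
    exact Algebra.isSeparable_tower_top_of_isSeparable (ResidueField B) (ResidueField C) (ResidueField B')
  · have hτ' : τ.comp (ResidueField.map (algebraMap B B')) = ResidueField.map (f.comp iB) := by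
      refine RingHom.ext fun x => ?_
      obtain ⟨b, rfl⟩ := residue_surjective x
      have := congrArg (fun φ => φ (residue C (iB b))) hτ
      simp only [RingHom.comp_apply, ResidueField.map_residue] at this ⊢
      rwa [← hB]
    obtain ⟨g, ⟨hg, hgr⟩, huniq⟩ := hBB.universal T (f.comp iB) τ hτ'
    have hgres : ∀ c, residue T (g (algebraMap C B' c)) = residue T (f c) := fun c => by
      rw [hgr]
      exact (congrArg (fun φ => φ (residue C c)) hτ :)
    refine ⟨g, ⟨hgen T _ f ?_ ?_, hgr⟩, fun g' hg' => huniq g' ⟨?_, hg'.2⟩⟩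
    · haveI : IsLocalHom ((f.comp iA).comp (algebraMap A A')) := inferInstance
      obtain ⟨u, -, hu⟩ := hA.universal T ((f.comp iA).comp (algebraMap A A'))
        (ResidueField.map (f.comp iA)) (RingHom.ext fun x => by
          obtain ⟨a, rfl⟩ := residue_surjective x
          rfl)
      refine (hu _ ⟨?_, fun x => ?_⟩).trans (hu _ ⟨rfl, fun x => rfl⟩).symm
      · rw [RingHom.comp_assoc _ iA, RingHom.comp_assoc _ iA, hcomm, ← RingHom.comp_assoc, ← RingHom.comp_assoc,
          RingHom.comp_assoc iB (algebraMap C B') g, hB, hg]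
      · exact hgres (iA x)
    · rw [RingHom.comp_assoc, hB, hg]
    · rw [← hB, ← RingHom.comp_assoc, hg'.1]

end Tower

end Groth.Agent.H1Branch
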