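import Groth.Agent.H1Branch.Core
import Groth.Agent.H1Branch.Tower
import Groth.Agent.S2750
import Groth.Agent.S2749
import Groth.Agent.S1182
import Groth.Agent.FlatLoc6.GeomProp
import Groth.Agent.Hensel.HenselizationDescent
import Mathlib.RingTheory.Localization.BaseChange
import Mathlib.RingTheory.TensorProduct.Quotient
import Mathlib.RingTheory.Smooth.Flat
import Mathlib.RingTheory.Flat.Stability

/-!
# Branches along smooth maps
-/

set_option autoImplicit false
set_option linter.style.haveILetI false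

universe u

namespace Groth.Agent.H1Branch

open IsLocalRing TensorProduct

section Quotient

variable (A C : Type u) [CommRing A] [CommRing C] [IsLocalRing C] [Algebra A C] (P : Ideal A)

theorem flat_quotient [Module.Flat A C] : Module.Flat (A ⧸ P) (C ⧸ P.map (algebraMap A C)) :=
  Module.Flat.of_linearEquiv (Algebra.TensorProduct.quotIdealMapEquivQuotTensor (B := C) (I := P)).toLinearEquiv

theorem preservesNormal_quotient (h : PreservesNormal A C) :
    PreservesNormal (A ⧸ P) (C ⧸ P.map (algebraMap A C)) := by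
  intro N _ _ hN
  letI : Algebra A N := Algebra.compHom N (algebraMap A (A ⧸ P))
  haveI : IsScalarTower A (A ⧸ P) N := .of_algebraMap_eq fun _ => rfl
  let e := (Algebra.TensorProduct.congr (AlgEquiv.refl : N ≃ₐ[A ⧸ P] N)
      (Algebra.TensorProduct.quotIdealMapEquivQuotTensor (B := C) (I := P))).toRingEquiv.trans
    (Algebra.TensorProduct.cancelBaseChange A (A ⧸ P) (A ⧸ P) N C).toRingEquiv
  exact Groth.Agent.FlatLoc6.isNormalRing_of_ringEquiv e.symm (h N hN)

end Quotient

/-- A prime of a strictly henselian ring generates a prime in the strict henselization of a smooth local algebra. -/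
theorem isPrime_map_strict (A C B' : Type u) [CommRing A] [HenselianLocalRing A] [IsSepClosed (ResidueField A)]
    [CommRing C] [IsLocalRing C] [Algebra A C] [IsLocalHom (algebraMap A C)] [Module.Flat A C]
    (hn : PreservesNormal A C) [CommRing B'] [IsLocalRing B'] [Algebra C B'] [IsLocalHom (algebraMap C B')]
    [Hensel.IsStrictHenselization C B'] (P : Ideal A) [P.IsPrime] :
    (P.map ((algebraMap C B').comp (algebraMap A C))).IsPrime := by
  set I := P.map (algebraMap A C) with hI
  have hPm : P ≤ maximalIdeal A := IsLocalRing.le_maximalIdeal (Ideal.IsPrime.ne_top ‹_›)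
  have hIm : I ≤ maximalIdeal C := Ideal.map_le_iff_le_comap.2 fun a ha => map_nonunit _ a (hPm ha)
  have hJm : I.map (algebraMap C B') ≤ maximalIdeal B' :=
    Ideal.map_le_iff_le_comap.2 fun a ha => map_nonunit _ a (hIm ha)
  haveI : Nontrivial (C ⧸ I) :=
    Ideal.Quotient.nontrivial_iff.2 (ne_top_of_le_ne_top (maximalIdeal.isMaximal C).ne_top hIm)
  haveI : Nontrivial (B' ⧸ I.map (algebraMap C B')) :=
    Ideal.Quotient.nontrivial_iff.2 (ne_top_of_le_ne_top (maximalIdeal.isMaximal B').ne_top hJm)
  haveI : IsLocalRing (C ⧸ I) := IsLocalRing.of_surjective' _ Ideal.Quotient.mk_surjective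
  haveI : IsLocalRing (B' ⧸ I.map (algebraMap C B')) := IsLocalRing.of_surjective' _ Ideal.Quotient.mk_surjective
  haveI : IsLocalHom (Ideal.Quotient.mk I) := .of_surjective _ Ideal.Quotient.mk_surjective
  haveI : IsLocalHom (Ideal.Quotient.mk (I.map (algebraMap C B'))) :=
    .of_surjective _ Ideal.Quotient.mk_surjective
  haveI : IsLocalHom (algebraMap (C ⧸ I) (B' ⧸ I.map (algebraMap C B'))) := ⟨fun r hr => by
    obtain ⟨a, rfl⟩ := Ideal.Quotient.mk_surjective r
    exact (isUnit_of_map_unit (algebraMap C B') a (isUnit_of_map_unit (Ideal.Quotient.mk _) _ hr)).map _⟩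
  haveI := isStrictHenselization_quotient (R := C) (S := B') I
  haveI : IsLocalRing (A ⧸ P) := IsLocalRing.of_surjective' _ Ideal.Quotient.mk_surjective
  haveI : HenselianLocalRing (A ⧸ P) := henselianLocalRing_quotient P
  haveI : IsLocalHom (Ideal.Quotient.mk P) := .of_surjective _ Ideal.Quotient.mk_surjective
  haveI : IsSepClosed (ResidueField (A ⧸ P)) := Groth.Agent.Hensel.isSepClosed_of_ringEquiv
    (RingEquiv.ofBijective (ResidueField.map (Ideal.Quotient.mk P)) ⟨RingHom.injective _, fun z => by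
      obtain ⟨a, rfl⟩ := residue_surjective z
      obtain ⟨b, rfl⟩ := Ideal.Quotient.mk_surjective a
      exact ⟨residue A b, rfl⟩⟩)
  haveI : IsLocalHom (algebraMap (A ⧸ P) (C ⧸ I)) := ⟨fun r hr => by
    obtain ⟨a, rfl⟩ := Ideal.Quotient.mk_surjective r
    exact (isUnit_of_map_unit (algebraMap A C) a (isUnit_of_map_unit (Ideal.Quotient.mk I) _ hr)).map _⟩
  haveI : Module.Flat (A ⧸ P) (C ⧸ I) := flat_quotient A C P
  obtain ⟨hd, hg⟩ := geomUnibranch (A ⧸ P) (C ⧸ I) (preservesNormal_quotient A C P hn)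
  haveI := hd
  haveI := (Groth.Agent.S2750.result (C ⧸ I) (B' ⧸ I.map (algebraMap C B'))).1 ⟨inferInstance, hg⟩
  rw [← Ideal.map_map, ← hI]
  exact (Ideal.Quotient.isDomain_iff_prime _).1 inferInstance

/-- A prime of a henselian ring generates a prime in the henselization of a smooth local algebra with purely
inseparable residue extension. -/
theorem isPrime_map_henselization (A C B' : Type u) [CommRing A] [HenselianLocalRing A]
    [CommRing C] [IsLocalRing C] [Algebra A C] [IsLocalHom (algebraMap A C)] [Module.Flat A C]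
    (hn : PreservesNormal A C)
    (hpi : ∀ c : C, ∃ (n : ℕ) (r : A), c ^ ringExpChar (ResidueField A) ^ n - algebraMap A C r ∈ maximalIdeal C)
    [CommRing B'] [IsLocalRing B'] [Algebra C B'] [IsLocalHom (algebraMap C B')]
    [Hensel.IsHenselization C B'] (P : Ideal A) [P.IsPrime] :
    (P.map ((algebraMap C B').comp (algebraMap A C))).IsPrime := by
  set I := P.map (algebraMap A C) with hI
  have hPm : P ≤ maximalIdeal A := IsLocalRing.le_maximalIdeal (Ideal.IsPrime.ne_top ‹_›)
  have hIm : I ≤ maximalIdeal C := Ideal.map_le_iff_le_comap.2 fun a ha => map_nonunit _ a (hPm ha)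
  have hJm : I.map (algebraMap C B') ≤ maximalIdeal B' :=
    Ideal.map_le_iff_le_comap.2 fun a ha => map_nonunit _ a (hIm ha)
  haveI : Nontrivial (C ⧸ I) :=
    Ideal.Quotient.nontrivial_iff.2 (ne_top_of_le_ne_top (maximalIdeal.isMaximal C).ne_top hIm)
  haveI : Nontrivial (B' ⧸ I.map (algebraMap C B')) :=
    Ideal.Quotient.nontrivial_iff.2 (ne_top_of_le_ne_top (maximalIdeal.isMaximal B').ne_top hJm)
  haveI : IsLocalRing (C ⧸ I) := IsLocalRing.of_surjective' _ Ideal.Quotient.mk_surjective
  haveI : IsLocalRing (B' ⧸ I.map (algebraMap C B')) := IsLocalRing.of_surjective' _ Ideal.Quotient.mk_surjective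
  haveI : IsLocalHom (Ideal.Quotient.mk I) := .of_surjective _ Ideal.Quotient.mk_surjective
  haveI : IsLocalHom (Ideal.Quotient.mk (I.map (algebraMap C B'))) :=
    .of_surjective _ Ideal.Quotient.mk_surjective
  haveI : IsLocalHom (algebraMap (C ⧸ I) (B' ⧸ I.map (algebraMap C B'))) := ⟨fun r hr => by
    obtain ⟨a, rfl⟩ := Ideal.Quotient.mk_surjective r
    exact (isUnit_of_map_unit (algebraMap C B') a (isUnit_of_map_unit (Ideal.Quotient.mk _) _ hr)).map _⟩
  haveI := isHenselization_quotient (R := C) (S := B') I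
  haveI : IsLocalRing (A ⧸ P) := IsLocalRing.of_surjective' _ Ideal.Quotient.mk_surjective
  haveI : HenselianLocalRing (A ⧸ P) := henselianLocalRing_quotient P
  haveI : IsLocalHom (Ideal.Quotient.mk P) := .of_surjective _ Ideal.Quotient.mk_surjective
  haveI : IsLocalHom (algebraMap (A ⧸ P) (C ⧸ I)) := ⟨fun r hr => by
    obtain ⟨a, rfl⟩ := Ideal.Quotient.mk_surjective r
    exact (isUnit_of_map_unit (algebraMap A C) a (isUnit_of_map_unit (Ideal.Quotient.mk I) _ hr)).map _⟩
  haveI : Module.Flat (A ⧸ P) (C ⧸ I) := flat_quotient A C P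
  haveI := ringExpChar.expChar (ResidueField A)
  haveI : ExpChar (ResidueField (A ⧸ P)) (ringExpChar (ResidueField A)) :=
    expChar_of_injective_ringHom (ResidueField.map (Ideal.Quotient.mk P)).injective _
  obtain ⟨hd, hg⟩ := unibranch (A ⧸ P) (C ⧸ I) (preservesNormal_quotient A C P hn) fun c => by
    obtain ⟨c, rfl⟩ := Ideal.Quotient.mk_surjective c
    obtain ⟨n, r, hr⟩ := hpi c
    refine ⟨n, Ideal.Quotient.mk P r, ?_⟩
    rw [ringExpChar.eq _ (ringExpChar (ResidueField A))]
    have : Ideal.Quotient.mk I (c ^ ringExpChar (ResidueField A) ^ n - algebraMap A C r) ∈ maximalIdeal (C ⧸ I) :=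
      map_nonunit (Ideal.Quotient.mk I) _ hr
    rwa [map_sub, map_pow] at this
  haveI := hd
  haveI := (Groth.Agent.S2749.result (C ⧸ I) (B' ⧸ I.map (algebraMap C B'))).1 ⟨inferInstance, hg⟩
  rw [← Ideal.map_map, ← hI]
  exact (Ideal.Quotient.isDomain_iff_prime _).1 inferInstance

/-- Minimal primes correspond when every minimal prime generates a prime. -/
theorem encard_minimalPrimes_eq (A B : Type u) [CommRing A] [IsLocalRing A] [CommRing B] [IsLocalRing B]
    [Algebra A B] [IsLocalHom (algebraMap A B)] [Module.Flat A B]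
    (h : ∀ P ∈ minimalPrimes A, (P.map (algebraMap A B)).IsPrime) :
    (minimalPrimes A).encard = (minimalPrimes B).encard := by
  haveI : Module.FaithfullyFlat A B := Module.FaithfullyFlat.of_flat_of_isLocalHom
  have hc : ∀ P : Ideal A, (P.map (algebraMap A B)).comap (algebraMap A B) = P := fun P =>
    Ideal.comap_map_eq_self_of_faithfullyFlat P
  suffices hb : Set.BijOn (fun P => P.map (algebraMap A B)) (minimalPrimes A) (minimalPrimes B) by
    rw [← hb.image_eq, hb.injOn.encard_image]
  refine ⟨fun P hP => ?_, fun P _ Q _ hPQ => ?_, fun Q hQ => ?_⟩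
  · refine ⟨⟨h P hP, bot_le⟩, fun Q hQ hQP => ?_⟩
    refine Ideal.map_le_iff_le_comap.2 ?_
    haveI := hQ.1
    exact hP.2 ⟨inferInstance, bot_le⟩ ((Ideal.comap_mono hQP).trans (hc P).le)
  · rw [← hc P, ← hc Q]
    exact congrArg _ hPQ
  · haveI := hQ.1.1
    haveI : (Q.comap (algebraMap A B)).IsPrime := inferInstance
    obtain ⟨P, hP, hPQ⟩ := Ideal.exists_minimalPrimes_le (I := (⊥ : Ideal A)) (J := Q.comap (algebraMap A B)) bot_le
    exact ⟨P, hP, le_antisymm (Ideal.map_le_iff_le_comap.2 hPQ)
      (hQ.2 ⟨h P hP, bot_le⟩ (Ideal.map_le_iff_le_comap.2 hPQ))⟩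

section Setup

variable {R S : Type u} [CommRing R] [CommRing S] [Algebra R S] [Algebra.Smooth R S]
  (q : Ideal S) [q.IsPrime] (p : Ideal R) [p.IsPrime] [q.LiesOver p]

/-- The intermediate local ring. -/
theorem exists_middle (A' B' : Type u) [CommRing A'] [IsLocalRing A'] [Algebra (Localization.AtPrime p) A']
    [IsLocalHom (algebraMap (Localization.AtPrime p) A')] [CommRing B'] [IsLocalRing B']
    [Algebra (Localization.AtPrime q) B'] [IsLocalHom (algebraMap (Localization.AtPrime q) B')]
    (ψ : A' →+* B') [IsLocalHom ψ]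
    (hψ : ψ.comp (algebraMap (Localization.AtPrime p) A') =
      (algebraMap (Localization.AtPrime q) B').comp (Localization.localRingHom p q (algebraMap R S) (q.over_def p))) :
    ∃ (C : Type u) (_ : CommRing C) (_ : IsLocalRing C) (_ : Algebra A' C) (_ : Algebra C B')
      (_ : IsLocalHom (algebraMap A' C)) (_ : IsLocalHom (algebraMap C B')) (iB : Localization.AtPrime q →+* C),
      Module.Flat A' C ∧ PreservesNormal A' C ∧
      (algebraMap C B').comp (algebraMap A' C) = ψ ∧
      (algebraMap C B').comp iB = algebraMap (Localization.AtPrime q) B' ∧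
      (algebraMap A' C).comp (algebraMap (Localization.AtPrime p) A') =
        iB.comp (Localization.localRingHom p q (algebraMap R S) (q.over_def p)) ∧
      ∀ (T : Type u) [CommRing T] (f g : C →+* T), f.comp (algebraMap A' C) = g.comp (algebraMap A' C) →
        f.comp iB = g.comp iB → f = g := by
  letI : Algebra R A' := Algebra.compHom A' (algebraMap R (Localization.AtPrime p))
  have hRA : ∀ r : R, algebraMap R A' r = algebraMap (Localization.AtPrime p) A' (algebraMap R _ r) := fun _ => rfl
  let fS : S →+* B' := (algebraMap (Localization.AtPrime q) B').comp (algebraMap S (Localization.AtPrime q))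
  letI : Algebra R B' := Algebra.compHom B' (algebraMap R S |> fS.comp)
  have hcompat : ∀ r : R, ψ (algebraMap R A' r) = fS (algebraMap R S r) := fun r => by
    rw [hRA, ← RingHom.comp_apply, hψ]
    simp only [RingHom.comp_apply, fS, Localization.localRingHom_to_map]
  let ψA : A' →ₐ[R] B' := ⟨ψ, hcompat⟩
  let fA : S →ₐ[R] B' := ⟨fS, fun _ => rfl⟩
  let φ : A' ⊗[R] S →ₐ[R] B' := Algebra.TensorProduct.lift ψA fA fun _ _ => Commute.all _ _
  let q' : Ideal (A' ⊗[R] S) := (maximalIdeal B').comap φ.toRingHom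
  haveI : q'.IsPrime := inferInstance
  let C := Localization.AtPrime q'
  have hu : ∀ s : q'.primeCompl, IsUnit (φ.toRingHom s) := fun s => by
    by_contra h
    exact s.2 h
  let fC : C →+* B' := IsLocalization.lift hu
  letI : Algebra C B' := fC.toAlgebra
  have hfC : ∀ x, algebraMap C B' (algebraMap (A' ⊗[R] S) C x) = φ x := fun x => IsLocalization.lift_eq hu x
  have hAC : ∀ a : A', algebraMap A' C a = algebraMap (A' ⊗[R] S) C (a ⊗ₜ[R] 1) := fun a => by
    rw [IsScalarTower.algebraMap_apply A' (A' ⊗[R] S) C]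
    rfl
  have hC1 : (algebraMap C B').comp (algebraMap A' C) = ψ := RingHom.ext fun a => by
    rw [RingHom.comp_apply, hAC, hfC]
    show φ (a ⊗ₜ[R] 1) = ψ a
    simp [φ, ψA]
  haveI : IsLocalHom (algebraMap C B') := ⟨fun x hx => by
    obtain ⟨y, s, rfl⟩ := IsLocalization.exists_mk'_eq q'.primeCompl x
    rw [show algebraMap C B' (IsLocalization.mk' C y s) = _ from IsLocalization.lift_mk' hu y s] at hx
    rw [IsLocalization.AtPrime.isUnit_mk'_iff]
    exact fun hy => (isUnit_of_mul_isUnit_left hx |> fun h => (show φ y ∈ maximalIdeal B' from hy) h)⟩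
  haveI : IsLocalHom (algebraMap A' C) := ⟨fun a ha => by
    have := ha.map (algebraMap C B')
    rw [← RingHom.comp_apply, hC1] at this
    exact isUnit_of_map_unit ψ a this⟩
  let jS : S →+* C := (algebraMap (A' ⊗[R] S) C).comp
    (Algebra.TensorProduct.includeRight : S →ₐ[R] A' ⊗[R] S).toRingHom
  have hjS : ∀ s, algebraMap C B' (jS s) = fS s := fun s => by
    show algebraMap C B' (algebraMap (A' ⊗[R] S) C (1 ⊗ₜ[R] s)) = _
    rw [hfC]
    simp [φ, fA]
  have huS : ∀ s : q.primeCompl, IsUnit (jS s) := fun s => by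
    refine isUnit_of_map_unit (algebraMap C B') _ ?_
    rw [hjS]
    exact (IsLocalization.map_units (Localization.AtPrime q) s).map (algebraMap (Localization.AtPrime q) B')
  let iB : Localization.AtPrime q →+* C := IsLocalization.lift huS
  have hiB : ∀ s, iB (algebraMap S _ s) = jS s := fun s => IsLocalization.lift_eq huS s
  refine ⟨C, inferInstance, inferInstance, inferInstance, inferInstance, inferInstance, inferInstance, iB,
    ?_, ?_, hC1, ?_, ?_, ?_⟩
  · haveI : Module.Flat (A' ⊗[R] S) C := IsLocalization.flat C q'.primeCompl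
    exact Module.Flat.trans A' (A' ⊗[R] S) C
  · intro N _ _ hN
    have hsm := (Groth.Agent.S1182.result N (N ⊗[A'] (A' ⊗[R] S))).1 hN
    let j : (N ⊗[A'] (A' ⊗[R] S)) →ₐ[N] (N ⊗[A'] C) :=
      Algebra.TensorProduct.map (AlgHom.id N N) (IsScalarTower.toAlgHom A' (A' ⊗[R] S) C)
    letI : Algebra (N ⊗[A'] (A' ⊗[R] S)) (N ⊗[A'] C) := j.toRingHom.toAlgebra
    haveI : IsScalarTower N (N ⊗[A'] (A' ⊗[R] S)) (N ⊗[A'] C) := .of_algebraMap_eq fun n => (j.commutes n).symm
    haveI := IsLocalization.tensorProduct_tensorProduct_right A' N q'.primeCompl C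
      (RingHom.ext fun x => by show j (1 ⊗ₜ[A'] x) = _; simp [j])
    exact Groth.Agent.FlatLoc6.isNormalRing_of_isLocalization
      (q'.primeCompl.map (Algebra.TensorProduct.includeRight (R := A') (A := N))) (N ⊗[A'] C) hsm
  · refine IsLocalization.ringHom_ext q.primeCompl (RingHom.ext fun s => ?_)
    show algebraMap C B' (iB (algebraMap S _ s)) = fS s
    rw [hiB, hjS]
  · refine IsLocalization.ringHom_ext p.primeCompl (RingHom.ext fun r => ?_)
    show algebraMap A' C (algebraMap R A' r) = iB (Localization.localRingHom p q (algebraMap R S) _ (algebraMap R _ r))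
    rw [Localization.localRingHom_to_map, hiB, hAC]
    show algebraMap (A' ⊗[R] S) C (algebraMap R A' r ⊗ₜ[R] 1) = algebraMap (A' ⊗[R] S) C (1 ⊗ₜ[R] algebraMap R S r)
    congr 1
    rw [Algebra.algebraMap_eq_smul_one (R := R) (A := A'), TensorProduct.smul_tmul, ← Algebra.algebraMap_eq_smul_one]
  · intro T _ f g h1 h2
    refine IsLocalization.ringHom_ext q'.primeCompl (RingHom.ext fun z => ?_)
    show f (algebraMap (A' ⊗[R] S) C z) = g (algebraMap (A' ⊗[R] S) C z)
    induction z with
    | zero => simp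
    | tmul a s =>
      have e : a ⊗ₜ[R] s = (a ⊗ₜ[R] (1 : S)) * ((1 : A') ⊗ₜ[R] s) := by simp
      rw [e, map_mul, map_mul, map_mul, ← hAC a,
        show algebraMap (A' ⊗[R] S) C ((1 : A') ⊗ₜ[R] s) = iB (algebraMap S _ s) from (hiB s).symm]
      exact congrArg₂ (· * ·) (congrArg (fun φ => φ a) h1 :) (congrArg (fun φ => φ (algebraMap S _ s)) h2 :)
    | add x y hx hy => simp [map_add, hx, hy]

end Setup

end Groth.Agent.H1Branch
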