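import Groth.Agent.H1Branch.TensorBij
import Groth.Agent.BrnchLib.Unibranch
import Groth.Prelude.Def_CAlgX

/-! Base change of the normalisation to a henselization: local rings are domains. -/

noncomputable section

namespace Groth.Agent.H1Branch

universe u

open IsLocalRing TensorProduct Groth.Agent.Hensel Groth.Agent.BrnchLib

set_option linter.style.haveILetI false

theorem isDomain_localization_tensor_henz (A : Type u) [CommRing A] [IsLocalRing A] (S : Type u) [CommRing S]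
    [IsLocalRing S] [Algebra A S] [IsLocalHom (algebraMap A S)] [_root_.Hensel.IsHenselization A S]
    (B : Type u) [CommRing B] [Algebra A B] [Algebra.IsIntegral A B]
    (hN : ∀ m : Ideal B, ∀ [m.IsMaximal], IsDomain (Localization.AtPrime m) ∧ IsIntegrallyClosed (Localization.AtPrime m))
    (n : Ideal (S ⊗[A] B)) [n.IsMaximal] : IsDomain (Localization.AtPrime n) := by
  classical
  let iR : B →+* S ⊗[A] B := (Algebra.TensorProduct.includeRight : B →ₐ[A] S ⊗[A] B).toRingHom
  let iL : S →+* S ⊗[A] B := algebraMap S (S ⊗[A] B)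
  have hcomm : iR.comp (algebraMap A B) = iL.comp (algebraMap A S) := RingHom.ext fun a => by
    simp only [iR, iL, AlgHom.toRingHom_eq_coe, RingHom.comp_apply, RingHom.coe_coe, AlgHom.commutes, ← IsScalarTower.algebraMap_apply]
  have hmax : ∀ n : Ideal (S ⊗[A] B), n.IsMaximal → n.comap iL = maximalIdeal S ∧ (n.comap iR).IsMaximal := fun n hn => by
    have h1 : n.comap iL = maximalIdeal S := IsLocalRing.eq_maximalIdeal (Ideal.isMaximal_comap_of_isIntegral_of_isMaximal n)
    refine ⟨h1, Ideal.isMaximal_of_isIntegral_of_isMaximal_comap (R := A) _ ?_⟩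
    rw [Ideal.comap_comap, hcomm, ← Ideal.comap_comap, h1, IsLocalRing.maximalIdeal_comap]
    infer_instance
  -- the closed fibre
  have hclosed : ∀ x : S ⊗[A] B, ∃ b : B, x - iR b ∈ (maximalIdeal S).map iL := fun x => by
    induction x using TensorProduct.induction_on with
    | zero => exact ⟨0, by simp⟩
    | tmul s b =>
      obtain ⟨a, ha⟩ := exists_sub_mem_of_isHenselization A S s
      refine ⟨algebraMap A B a * b, ?_⟩
      have hh : s ⊗ₜ[A] b - iR (algebraMap A B a * b) = iL (s - algebraMap A S a) * iR b := by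
        simp only [iR, iL, AlgHom.toRingHom_eq_coe, RingHom.coe_coe, Algebra.TensorProduct.includeRight_apply,
          Algebra.TensorProduct.algebraMap_apply, Algebra.algebraMap_self, RingHom.id_apply,
          Algebra.TensorProduct.tmul_mul_tmul, mul_one, one_mul, TensorProduct.sub_tmul, sub_mul]
        rw [← Algebra.smul_def, ← TensorProduct.smul_tmul, ← Algebra.algebraMap_eq_smul_one]
      rw [hh]
      refine Ideal.mul_mem_right _ _ (Ideal.mem_map_of_mem _ ?_)
      rw [← map_maximalIdeal_of_isHenselization A S]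
      exact ha
    | add x y hx hy =>
      obtain ⟨b, hb⟩ := hx
      obtain ⟨c, hc⟩ := hy
      exact ⟨b + c, by rw [map_add, add_sub_add_comm]; exact add_mem hb hc⟩
  have hinj : ∀ (n n' : Ideal (S ⊗[A] B)), n.IsMaximal → n'.IsPrime → n'.comap iL = maximalIdeal S →
      n'.comap iR = n.comap iR → n' = n := fun n n' hn hn' h1 h2 => by
    ext x
    obtain ⟨b, hb⟩ := hclosed x
    have e1 := (Ideal.map_le_iff_le_comap.2 h1.ge) hb
    have e2 := (Ideal.map_le_iff_le_comap.2 (hmax n hn).1.ge) hb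
    rw [← sub_add_cancel x (iR b), Ideal.add_mem_iff_right _ e1, Ideal.add_mem_iff_right _ e2]
    exact SetLike.ext_iff.1 h2 b
  exact isDomain_localization_tensor A S B hN hinj n

/-- The three bijections for the normalisation tensored with a henselization, in the order `A' ⊗ S`. -/
theorem bijections_normRed (A : Type u) [CommRing A] [IsLocalRing A] (hfin : (minimalPrimes A).Finite)
    (S : Type u) [CommRing S] [IsLocalRing S] [Algebra A S] [IsLocalHom (algebraMap A S)] [HenselianLocalRing S]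
    (hH : Groth.Agent.Hensel.IsHenzLike A S)
    (hdom : ∀ n : Ideal (S ⊗[A] CAlg2.normRed A), ∀ [n.IsMaximal], IsDomain (Localization.AtPrime n)) :
    Set.BijOn (fun P : Ideal (CAlg2.normRed A ⊗[A] S) =>
        P.comap (Algebra.TensorProduct.includeRight.toRingHom : S →+* CAlg2.normRed A ⊗[A] S))
      (minimalPrimes (CAlg2.normRed A ⊗[A] S)) (minimalPrimes S) ∧
    (∀ q ∈ minimalPrimes (CAlg2.normRed A ⊗[A] S), ∃! m : Ideal (CAlg2.normRed A ⊗[A] S), m.IsMaximal ∧ q ≤ m) ∧
      (∀ m : Ideal (CAlg2.normRed A ⊗[A] S), m.IsMaximal →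
        ∃! q : Ideal (CAlg2.normRed A ⊗[A] S), q ∈ minimalPrimes (CAlg2.normRed A ⊗[A] S) ∧ q ≤ m) := by
  haveI := hfin.to_subtype
  obtain ⟨h1, h2, h3⟩ := tensor_bijections A S hH (CAlg2.normRed A) hdom (bijOn_normRed A) (birational_normRed A)
  let e : CAlg2.normRed A ⊗[A] S ≃+* S ⊗[A] CAlg2.normRed A := (Algebra.TensorProduct.comm A _ S).toRingEquiv
  let o : Ideal (CAlg2.normRed A ⊗[A] S) ≃o Ideal (S ⊗[A] CAlg2.normRed A) := e.idealComapOrderIso.symm
  have ho : ∀ Q, o Q = Q.comap e.symm := fun Q =>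
    (e.idealComapOrderIso_symm_apply Q).trans (Ideal.comap_symm e).symm
  have hmax : ∀ Q, Q.IsMaximal ↔ (o Q).IsMaximal := fun Q => by
    rw [Ideal.isMaximal_def, Ideal.isMaximal_def]
    exact (o.isCoatom_iff Q).symm
  have hmp : ∀ Q, Q ∈ minimalPrimes (CAlg2.normRed A ⊗[A] S) ↔ o Q ∈ minimalPrimes (S ⊗[A] CAlg2.normRed A) := fun Q => by
    rw [ho]
    constructor
    · intro h
      haveI := h.1.1
      refine ⟨⟨Ideal.IsPrime.comap _, bot_le⟩, fun P ⟨hP, _⟩ hle => ?_⟩
      haveI := hP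
      intro x hx
      have := h.2 (y := P.comap e) ⟨Ideal.IsPrime.comap e, bot_le⟩ (fun y hy => by simpa using hle hy) hx
      rwa [Ideal.mem_comap, RingEquiv.apply_symm_apply] at this
    · intro h
      haveI := h.1.1
      have hQ : Q = (Q.comap e.symm).comap e := by ext x; simp
      refine ⟨⟨hQ ▸ Ideal.IsPrime.comap e, bot_le⟩, fun P ⟨hP, _⟩ hle => ?_⟩
      haveI := hP
      intro x hx
      have := h.2 (y := P.comap e.symm) ⟨Ideal.IsPrime.comap _, bot_le⟩ (fun y hy => hle hy) (x := e x) (by simpa using hx)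
      simpa using this
  have hc : ∀ Q : Ideal (CAlg2.normRed A ⊗[A] S),
      Q.comap (Algebra.TensorProduct.includeRight.toRingHom : S →+* CAlg2.normRed A ⊗[A] S) =
        (o Q).comap (algebraMap S (S ⊗[A] CAlg2.normRed A)) := fun Q => by
    ext s
    rw [ho]
    simp [e]
  refine ⟨⟨fun Q hQ => ?_, fun Q hQ Q' hQ' h => ?_, fun P hP => ?_⟩, fun q hq => ?_, fun m hm => ?_⟩
  · have h := h1.mapsTo ((hmp Q).1 hQ)
    rwa [← hc] at h
  · refine o.injective (h1.injOn ((hmp Q).1 hQ) ((hmp Q').1 hQ') ?_)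
    rw [← hc, ← hc]
    exact h
  · obtain ⟨Q, hQ, rfl⟩ := h1.surjOn hP
    obtain ⟨Q, rfl⟩ := o.surjective Q
    exact ⟨Q, (hmp Q).2 hQ, hc Q⟩
  · obtain ⟨m, ⟨hm, hqm⟩, hu⟩ := h2 (o q) ((hmp q).1 hq)
    obtain ⟨m, rfl⟩ := o.surjective m
    exact ⟨m, ⟨(hmax m).2 hm, o.le_iff_le.1 hqm⟩, fun m' ⟨hm', hle⟩ =>
      o.injective (hu (o m') ⟨(hmax m').1 hm', o.le_iff_le.2 hle⟩)⟩
  · obtain ⟨q, ⟨hq, hqm⟩, hu⟩ := h3 (o m) ((hmax m).1 hm)
    obtain ⟨q, rfl⟩ := o.surjective q
    exact ⟨q, ⟨(hmp q).2 hq, o.le_iff_le.1 hqm⟩, fun q' ⟨hq', hle⟩ =>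
      o.injective (hu (o q') ⟨(hmp q').1 hq', o.le_iff_le.2 hle⟩)⟩

theorem hasUniqueMinimalPrime_iff_card (R : Type u) [CommRing R] :
    CAlgX.HasUniqueMinimalPrime R ↔ ENat.card (minimalPrimes R) = 1 := by
  rw [ENat.card_eq_one_iff_unique]
  exact ⟨fun ⟨p, hp, hu⟩ => ⟨⟨⟨⟨p, hp⟩⟩, fun q => Subtype.ext (hu q q.2)⟩⟩,
    fun ⟨h⟩ => ⟨h.default.1, h.default.2, fun q hq => congrArg Subtype.val (h.uniq ⟨q, hq⟩)⟩⟩

end Groth.Agent.H1Branch
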