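import Groth.Agent.H1Branch.Core
import Groth.Agent.H1Branch.Tower
import Groth.Agent.S2750
import Groth.Agent.S9413
import Groth.Agent.FlatLoc6.BaseChangeEss
import Mathlib.RingTheory.Localization.Integral
import Mathlib.RingTheory.Localization.Algebra
import Mathlib.LinearAlgebra.TensorProduct.RightExactness
import Mathlib.FieldTheory.IsAlgClosed.Basic

/-!
# Branches of tensor products of local algebras over an algebraically closed field
-/

noncomputable section

namespace Groth.Agent.H1Branch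

universe u

open IsLocalRing TensorProduct

set_option linter.style.haveILetI false

variable {k : Type u} [Field k] [IsAlgClosed k]

/-- Over an algebraically closed field a normal algebra is geometrically normal. -/
theorem isGeomNormal_of_isAlgClosed (S : Type u) [CommRing S] [Algebra k S] (h : EGA4.IsNormalRing S) :
    EGA4.IsGeomNormal k S := by
  intro k' _ _ _
  let e : k ≃ₐ[k] k' := AlgEquiv.ofBijective (Algebra.ofId k k')
    (IsAlgClosed.algebraMap_bijective_of_isIntegral (k := k) (K := k'))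
  exact Groth.Agent.FlatLoc6.isNormalRing_of_ringEquiv
    (((Algebra.TensorProduct.congr e.symm AlgEquiv.refl).trans (Algebra.TensorProduct.lid k S)).toRingEquiv.symm) h

/-- An integral local extension of a local algebra with residue field `k` has residue field `k`. -/
theorem exists_sub_mem_of_isIntegral {A A' : Type u} [CommRing A] [CommRing A'] [IsLocalRing A] [IsLocalRing A']
    [Algebra k A] [Algebra k A'] (hA : Function.Bijective ((residue A).comp (algebraMap k A)))
    (f : A →ₐ[k] A') (hf : f.toRingHom.IsIntegral) (x : A') :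
    ∃ c : k, x - algebraMap k A' c ∈ maximalIdeal A' := by
  let e : k ≃+* ResidueField A := RingEquiv.ofBijective _ hA
  let ι : k →+* ResidueField A' := (residue A').comp (algebraMap k A')
  have hm : (maximalIdeal A').comap f.toRingHom = maximalIdeal A :=
    IsLocalRing.eq_maximalIdeal (Ideal.isMaximal_comap_of_isIntegral_of_isMaximal' f.toRingHom hf (maximalIdeal A'))
  have hkey : ι.comp (e.symm.toRingHom.comp (residue A)) = (residue A').comp f.toRingHom := RingHom.ext fun a => by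
    set c := e.symm (residue A a)
    have hc : residue A (algebraMap k A c) = residue A a := e.apply_symm_apply (residue A a)
    have hmem : a - algebraMap k A c ∈ maximalIdeal A := by
      rw [← residue_eq_zero_iff, map_sub, hc, sub_self]
    rw [← hm, Ideal.mem_comap] at hmem
    have h2 := (residue_eq_zero_iff (f (a - algebraMap k A c))).2 hmem
    rw [map_sub, map_sub, sub_eq_zero, AlgHom.commutes] at h2
    exact h2.symm
  have hι : ι.IsIntegral := fun y => by
    obtain ⟨y, rfl⟩ := residue_surjective y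
    obtain ⟨p, hp, hp0⟩ := hf y
    refine ⟨p.map (e.symm.toRingHom.comp (residue A)), hp.map _, ?_⟩
    rw [Polynomial.eval₂_map, hkey, ← Polynomial.hom_eval₂, hp0, map_zero]
  obtain ⟨c, hc⟩ := (IsAlgClosed.ringHom_bijective_of_isIntegral ι hι).2 (residue A' x)
  refine ⟨c, ?_⟩
  rw [← residue_eq_zero_iff, map_sub, ← hc]
  exact sub_self _

variable {A B A' B' : Type u} [CommRing A] [CommRing B] [CommRing A'] [CommRing B'] [Algebra k A] [Algebra k B]
  [Algebra k A'] [Algebra k B'] (fA : A →ₐ[k] A') (fB : B →ₐ[k] B')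

theorem isIntegral_map (hA : fA.toRingHom.IsIntegral) (hB : fB.toRingHom.IsIntegral) :
    (Algebra.TensorProduct.map fA fB).toRingHom.IsIntegral := by
  intro z
  induction z with
  | zero => exact RingHom.isIntegralElem_zero _
  | tmul x y =>
    have hx : (Algebra.TensorProduct.map fA fB).toRingHom.IsIntegralElem (x ⊗ₜ[k] (1 : B')) := by
      obtain ⟨p, hp, hp0⟩ := hA x
      refine ⟨p.map (Algebra.TensorProduct.includeLeft : A →ₐ[k] A ⊗[k] B).toRingHom, hp.map _, ?_⟩
      rw [Polynomial.eval₂_map,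
        show (Algebra.TensorProduct.map fA fB).toRingHom.comp
            (Algebra.TensorProduct.includeLeft : A →ₐ[k] A ⊗[k] B).toRingHom =
          (Algebra.TensorProduct.includeLeft : A' →ₐ[k] A' ⊗[k] B').toRingHom.comp fA.toRingHom from
          RingHom.ext fun a => by simp,
        show x ⊗ₜ[k] (1 : B') = (Algebra.TensorProduct.includeLeft : A' →ₐ[k] A' ⊗[k] B').toRingHom x from rfl,
        ← Polynomial.hom_eval₂, hp0, map_zero]
    have hy : (Algebra.TensorProduct.map fA fB).toRingHom.IsIntegralElem ((1 : A') ⊗ₜ[k] y) := by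
      obtain ⟨p, hp, hp0⟩ := hB y
      refine ⟨p.map (Algebra.TensorProduct.includeRight : B →ₐ[k] A ⊗[k] B).toRingHom, hp.map _, ?_⟩
      rw [Polynomial.eval₂_map,
        show (Algebra.TensorProduct.map fA fB).toRingHom.comp
            (Algebra.TensorProduct.includeRight : B →ₐ[k] A ⊗[k] B).toRingHom =
          (Algebra.TensorProduct.includeRight : B' →ₐ[k] A' ⊗[k] B').toRingHom.comp fB.toRingHom from
          RingHom.ext fun a => by simp,
        show (1 : A') ⊗ₜ[k] y = (Algebra.TensorProduct.includeRight : B' →ₐ[k] A' ⊗[k] B').toRingHom y from rfl,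
        ← Polynomial.hom_eval₂, hp0, map_zero]
    have := hx.mul _ hy
    rwa [Algebra.TensorProduct.tmul_mul_tmul, mul_one, one_mul] at this
  | add u v hu hv => exact hu.add _ hv

theorem ker_map_eq : RingHom.ker (Algebra.TensorProduct.map fA fB) =
    (RingHom.ker fA).map (Algebra.TensorProduct.includeLeft : A →ₐ[k] A ⊗[k] B) ⊔
      (RingHom.ker fB).map (Algebra.TensorProduct.includeRight : B →ₐ[k] A ⊗[k] B) := by
  let pA := Ideal.Quotient.mkₐ k (RingHom.ker fA)
  let pB := Ideal.Quotient.mkₐ k (RingHom.ker fB)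
  let iA := Ideal.kerLiftAlg fA
  let iB := Ideal.kerLiftAlg fB
  have hcomp : Algebra.TensorProduct.map fA fB =
      (Algebra.TensorProduct.map iA iB).comp (Algebra.TensorProduct.map pA pB) := by
    rw [← Algebra.TensorProduct.map_comp]
    rfl
  have hinj : Function.Injective (Algebra.TensorProduct.map iA iB) :=
    TensorProduct.map_injective_of_flat_flat iA.toLinearMap iB.toLinearMap (Ideal.kerLiftAlg_injective fA)
      (Ideal.kerLiftAlg_injective fB)
  have hker : RingHom.ker (Algebra.TensorProduct.map fA fB) = RingHom.ker (Algebra.TensorProduct.map pA pB) := by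
    ext z
    rw [RingHom.mem_ker, RingHom.mem_ker, hcomp, AlgHom.comp_apply, map_eq_zero_iff _ hinj]
  rw [hker, Algebra.TensorProduct.map_ker _ _ Ideal.Quotient.mk_surjective Ideal.Quotient.mk_surjective]
  simp only [pA, pB]
  rw [show RingHom.ker (Ideal.Quotient.mkₐ k (RingHom.ker fA)) = RingHom.ker fA from Ideal.mk_ker,
    show RingHom.ker (Ideal.Quotient.mkₐ k (RingHom.ker fB)) = RingHom.ker fB from Ideal.mk_ker]

theorem exists_denom (hA : ∀ x, ∃ a b, fA b ≠ 0 ∧ fA b * x = fA a) (hB : ∀ x, ∃ a b, fB b ≠ 0 ∧ fB b * x = fB a)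
    [IsDomain A'] [IsDomain B'] (z : A' ⊗[k] B') :
    ∃ (b : A) (d : B) (w : A ⊗[k] B), fA b ≠ 0 ∧ fB d ≠ 0 ∧
      Algebra.TensorProduct.map fA fB (b ⊗ₜ[k] d) * z = Algebra.TensorProduct.map fA fB w := by
  induction z with
  | zero => exact ⟨1, 1, 0, by simp, by simp, by simp⟩
  | tmul x y =>
    obtain ⟨a, b, hb, hab⟩ := hA x
    obtain ⟨c, d, hd, hcd⟩ := hB y
    refine ⟨b, d, a ⊗ₜ[k] c, hb, hd, ?_⟩
    rw [Algebra.TensorProduct.map_tmul, Algebra.TensorProduct.map_tmul, Algebra.TensorProduct.tmul_mul_tmul, hab, hcd]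
  | add u v hu hv =>
    obtain ⟨b, d, w, hb, hd, hw⟩ := hu
    obtain ⟨b', d', w', hb', hd', hw'⟩ := hv
    refine ⟨b * b', d * d', (b' ⊗ₜ[k] d') * w + (b ⊗ₜ[k] d) * w', ?_, ?_, ?_⟩
    · rw [map_mul]; exact mul_ne_zero hb hb'
    · rw [map_mul]; exact mul_ne_zero hd hd'
    · rw [← Algebra.TensorProduct.tmul_mul_tmul, map_add, map_mul, map_mul (f := Algebra.TensorProduct.map fA fB) _ w,
        map_mul (f := Algebra.TensorProduct.map fA fB) _ w', ← hw, ← hw']
      ring

theorem exists_scalar_tensor [IsLocalRing A'] [IsLocalRing B']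
    (hA : ∀ x : A', ∃ c : k, x - algebraMap k A' c ∈ maximalIdeal A')
    (hB : ∀ x : B', ∃ c : k, x - algebraMap k B' c ∈ maximalIdeal B') (z : A' ⊗[k] B') :
    ∃ c : k, z - algebraMap k (A' ⊗[k] B') c ∈
      (maximalIdeal A').map (Algebra.TensorProduct.includeLeft : A' →ₐ[k] A' ⊗[k] B').toRingHom ⊔
        (maximalIdeal B').map (Algebra.TensorProduct.includeRight : B' →ₐ[k] A' ⊗[k] B').toRingHom := by
  induction z with
  | zero => exact ⟨0, by simp⟩
  | tmul x y =>
    obtain ⟨c, hc⟩ := hA x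
    obtain ⟨d, hd⟩ := hB y
    refine ⟨c * d, ?_⟩
    have e : x ⊗ₜ[k] y - algebraMap k (A' ⊗[k] B') (c * d) =
        ((x - algebraMap k A' c) ⊗ₜ[k] (1 : B')) * ((1 : A') ⊗ₜ[k] y) +
          algebraMap k (A' ⊗[k] B') c * ((1 : A') ⊗ₜ[k] (y - algebraMap k B' d)) := by
      rw [Algebra.TensorProduct.tmul_mul_tmul, mul_one, one_mul,
        show algebraMap k (A' ⊗[k] B') c = algebraMap k A' c ⊗ₜ[k] (1 : B') from rfl,
        show algebraMap k (A' ⊗[k] B') (c * d) = algebraMap k A' (c * d) ⊗ₜ[k] (1 : B') from rfl,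
        Algebra.TensorProduct.tmul_mul_tmul, mul_one, one_mul, TensorProduct.sub_tmul, TensorProduct.tmul_sub]
      have e2 : algebraMap k A' c ⊗ₜ[k] algebraMap k B' d = algebraMap k A' (c * d) ⊗ₜ[k] (1 : B') := by
        rw [Algebra.algebraMap_eq_smul_one d, ← TensorProduct.smul_tmul, Algebra.smul_def, map_mul, mul_comm]
      rw [e2]
      abel
    rw [e]
    exact add_mem (Ideal.mul_mem_right _ _ (Ideal.mem_sup_left (Ideal.mem_map_of_mem _ hc)))
      (Ideal.mul_mem_left _ _ (Ideal.mem_sup_right (Ideal.mem_map_of_mem _ hd)))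
  | add u v hu hv =>
    obtain ⟨c, hc⟩ := hu
    obtain ⟨d, hd⟩ := hv
    exact ⟨c + d, by rw [map_add, add_sub_add_comm]; exact add_mem hc hd⟩

theorem eq_zero_of_mul_tmul_one [IsDomain A'] {y : A'} (hy : y ≠ 0) {t : A' ⊗[k] B'}
    (h : t * y ⊗ₜ[k] (1 : B') = 0) : t = 0 := by
  have h' : y • t = 0 := by
    rw [Algebra.smul_def, mul_comm]
    exact h
  exact ((Module.Flat.isSMulRegular_of_nonZeroDivisors (M := A' ⊗[k] B') (mem_nonZeroDivisors_of_ne_zero hy)).eq_iff
    (a := t) (b := 0)).1 (h'.trans (smul_zero y).symm)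

theorem isLocalHom_quotient_map (R S : Type u) [CommRing R] [CommRing S] [IsLocalRing S] [Algebra R S]
    [IsLocalHom (algebraMap R S)] (I : Ideal R) [Nontrivial (S ⧸ I.map (algebraMap R S))] :
    IsLocalHom (algebraMap (R ⧸ I) (S ⧸ I.map (algebraMap R S))) := ⟨fun x hx => by
  haveI : IsLocalHom (Ideal.Quotient.mk (I.map (algebraMap R S))) := .of_surjective _ Ideal.Quotient.mk_surjective
  obtain ⟨a, rfl⟩ := Ideal.Quotient.mk_surjective x
  have h : IsUnit (Ideal.Quotient.mk (I.map (algebraMap R S)) (algebraMap R S a)) := hx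
  exact ((h.of_map).of_map).map _⟩

set_option maxHeartbeats 1000000 in
/-- The branch over a pair of branches is unique. -/
theorem isPrime_map_tensor [IsLocalRing A] [IsLocalRing B] [IsLocalRing A'] [IsLocalRing B']
    [IsDomain A'] [IsDomain B'] [IsIntegrallyClosed A'] [IsIntegrallyClosed B']
    (hkA : Function.Bijective ((residue A).comp (algebraMap k A)))
    (hkB : Function.Bijective ((residue B).comp (algebraMap k B)))
    (hAi : fA.toRingHom.IsIntegral) (hBi : fB.toRingHom.IsIntegral)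
    (hfA : ∀ x, ∃ a b, fA b ≠ 0 ∧ fA b * x = fA a) (hfB : ∀ x, ∃ a b, fB b ≠ 0 ∧ fB b * x = fB a)
    (𝔪 : Ideal (A ⊗[k] B)) [𝔪.IsPrime]
    (h𝔪 : 𝔪 = (maximalIdeal A).map (Algebra.TensorProduct.includeLeft : A →ₐ[k] A ⊗[k] B) ⊔
      (maximalIdeal B).map (Algebra.TensorProduct.includeRight : B →ₐ[k] A ⊗[k] B))
    (C : Type u) [CommRing C] [IsLocalRing C] [Algebra (Localization.AtPrime 𝔪) C]
    [IsLocalHom (algebraMap (Localization.AtPrime 𝔪) C)]
    [Hensel.IsStrictHenselization (Localization.AtPrime 𝔪) C] :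
    (((RingHom.ker fA).map (Algebra.TensorProduct.includeLeft : A →ₐ[k] A ⊗[k] B) ⊔
      (RingHom.ker fB).map (Algebra.TensorProduct.includeRight : B →ₐ[k] A ⊗[k] B)).map
        ((algebraMap (Localization.AtPrime 𝔪) C).comp
          (algebraMap (A ⊗[k] B) (Localization.AtPrime 𝔪)))).IsPrime ∧
      ∀ (b : A) (d : B), algebraMap (Localization.AtPrime 𝔪) C (algebraMap _ _ (b ⊗ₜ[k] d)) ∈
        ((RingHom.ker fA).map (Algebra.TensorProduct.includeLeft : A →ₐ[k] A ⊗[k] B) ⊔
      (RingHom.ker fB).map (Algebra.TensorProduct.includeRight : B →ₐ[k] A ⊗[k] B)).map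
        ((algebraMap (Localization.AtPrime 𝔪) C).comp
          (algebraMap (A ⊗[k] B) (Localization.AtPrime 𝔪))) → fA b = 0 ∨ fB d = 0 := by
  rw [← ker_map_eq fA fB]
  letI : Algebra (A ⊗[k] B) (A' ⊗[k] B') := (Algebra.TensorProduct.map fA fB).toRingHom.toAlgebra
  change ((RingHom.ker (algebraMap (A ⊗[k] B) (A' ⊗[k] B'))).map _).IsPrime ∧
    ∀ (b : A) (d : B), algebraMap (Localization.AtPrime 𝔪) C (algebraMap _ _ (b ⊗ₜ[k] d)) ∈
      (RingHom.ker (algebraMap (A ⊗[k] B) (A' ⊗[k] B'))).map _ → fA b = 0 ∨ fB d = 0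
  have hg : ∀ z, algebraMap (A ⊗[k] B) (A' ⊗[k] B') z = Algebra.TensorProduct.map fA fB z := fun _ => rfl
  haveI : Algebra.IsIntegral (A ⊗[k] B) (A' ⊗[k] B') := ⟨isIntegral_map fA fB hAi hBi⟩
  have hker : RingHom.ker (algebraMap (A ⊗[k] B) (A' ⊗[k] B')) ≤ 𝔪 := by
    show RingHom.ker (Algebra.TensorProduct.map fA fB) ≤ 𝔪
    rw [ker_map_eq, h𝔪]
    exact sup_le_sup (Ideal.map_mono (le_maximalIdeal (RingHom.ker_ne_top _)))
      (Ideal.map_mono (le_maximalIdeal (RingHom.ker_ne_top _)))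
  let Sm := Algebra.algebraMapSubmonoid (A' ⊗[k] B') 𝔪.primeCompl
  let L := Localization.AtPrime 𝔪
  let M := Localization Sm
  have hy : 𝔪.primeCompl ≤ Sm.comap (algebraMap (A ⊗[k] B) (A' ⊗[k] B')) := fun x hx => ⟨x, hx, rfl⟩
  let μ : L →+* M := IsLocalization.map (T := Sm) M (algebraMap (A ⊗[k] B) (A' ⊗[k] B')) hy
  have hμint : μ.IsIntegral :=
    isIntegral_localization (R := A ⊗[k] B) (S := A' ⊗[k] B') (M := 𝔪.primeCompl) (Rₘ := L) (Sₘ := M)
  have hμ1 : ∀ x, μ (algebraMap _ L x) = algebraMap _ M ((algebraMap (A ⊗[k] B) (A' ⊗[k] B')) x) := fun x => IsLocalization.map_eq hy x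
  have hμ2 : ∀ (x : A ⊗[k] B) (s : 𝔪.primeCompl),
      μ (IsLocalization.mk' L x s) = IsLocalization.mk' M ((algebraMap (A ⊗[k] B) (A' ⊗[k] B')) x) (⟨(algebraMap (A ⊗[k] B) (A' ⊗[k] B')) s, hy s.2⟩ : Sm) :=
    fun x s => IsLocalization.map_mk' hy x s
  have hμc : (algebraMap (A' ⊗[k] B') M).comp (algebraMap (A ⊗[k] B) (A' ⊗[k] B')) = μ.comp (algebraMap (A ⊗[k] B) L) :=
    RingHom.ext fun x => (hμ1 x).symm
  have h0Sm : (0 : A' ⊗[k] B') ∉ Sm := by
    rintro ⟨s, hs, hs0⟩
    exact hs (hker hs0)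
  haveI : Nontrivial M := ⟨⟨algebraMap (A' ⊗[k] B') M 1, 0, fun h => by
    obtain ⟨t, ht⟩ := (IsLocalization.map_eq_zero_iff Sm M _).1 h
    rw [mul_one] at ht
    exact h0Sm (ht ▸ t.2)⟩⟩
  -- the only prime above the maximal ideal
  set 𝔫 := (maximalIdeal A').map (Algebra.TensorProduct.includeLeft : A' →ₐ[k] A' ⊗[k] B').toRingHom ⊔
    (maximalIdeal B').map (Algebra.TensorProduct.includeRight : B' →ₐ[k] A' ⊗[k] B').toRingHom with h𝔫
  have hscal := exists_scalar_tensor (k := k) (A' := A') (B' := B')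
    (exists_sub_mem_of_isIntegral hkA fA hAi) (exists_sub_mem_of_isIntegral hkB fB hBi)
  rw [← h𝔫] at hscal
  have hover : ∀ Q : Ideal (A' ⊗[k] B'), Q.IsPrime → Q.comap (algebraMap (A ⊗[k] B) (A' ⊗[k] B')) = 𝔪 → Q = 𝔫 := by
    intro Q hQ hQm
    haveI := hQ
    have hQA : maximalIdeal A ≤ (Q.comap (Algebra.TensorProduct.includeLeft : A' →ₐ[k] A' ⊗[k] B').toRingHom).comap
        fA.toRingHom := fun a ha => by
      have h1 : (Algebra.TensorProduct.includeLeft : A →ₐ[k] A ⊗[k] B) a ∈ Q.comap (algebraMap (A ⊗[k] B) (A' ⊗[k] B')) := by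
        rw [hQm, h𝔪]; exact Ideal.mem_sup_left (Ideal.mem_map_of_mem _ ha)
      simpa [hg] using h1
    have hQB : maximalIdeal B ≤ (Q.comap (Algebra.TensorProduct.includeRight : B' →ₐ[k] A' ⊗[k] B').toRingHom).comap
        fB.toRingHom := fun b hb => by
      have h1 : (Algebra.TensorProduct.includeRight : B →ₐ[k] A ⊗[k] B) b ∈ Q.comap (algebraMap (A ⊗[k] B) (A' ⊗[k] B')) := by
        rw [hQm, h𝔪]; exact Ideal.mem_sup_right (Ideal.mem_map_of_mem _ hb)
      simpa [hg] using h1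
    have hle : 𝔫 ≤ Q := by
      rw [h𝔫, sup_le_iff, Ideal.map_le_iff_le_comap, Ideal.map_le_iff_le_comap]
      constructor
      · letI := fA.toRingHom.toAlgebra
        haveI : Algebra.IsIntegral A A' := ⟨hAi⟩
        have hmax := (maximalIdeal.isMaximal A).eq_of_le (Ideal.IsPrime.ne_top inferInstance) hQA
        exact (IsLocalRing.eq_maximalIdeal (Ideal.isMaximal_of_isIntegral_of_isMaximal_comap (R := A) _
          (hmax ▸ maximalIdeal.isMaximal A))).ge
      · letI := fB.toRingHom.toAlgebra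
        haveI : Algebra.IsIntegral B B' := ⟨hBi⟩
        have hmax := (maximalIdeal.isMaximal B).eq_of_le (Ideal.IsPrime.ne_top inferInstance) hQB
        exact (IsLocalRing.eq_maximalIdeal (Ideal.isMaximal_of_isIntegral_of_isMaximal_comap (R := B) _
          (hmax ▸ maximalIdeal.isMaximal B))).ge
    refine le_antisymm (fun z hz => ?_) hle
    obtain ⟨c, hc⟩ := hscal z
    by_cases hc0 : c = 0
    · simpa [hc0] using hc
    · exfalso
      have h1 := sub_mem hz (hle hc)
      rw [sub_sub_cancel] at h1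
      exact hQ.ne_top (Ideal.eq_top_of_isUnit_mem _ h1 ((Ne.isUnit hc0).map _))
  have hmaxL : ∀ Q : Ideal M, Q.IsMaximal → Q.comap (algebraMap (A' ⊗[k] B') M) = 𝔫 := fun Q hQ => by
    haveI := hQ
    refine hover _ (Ideal.IsPrime.comap _) ?_
    rw [Ideal.comap_comap, hμc, ← Ideal.comap_comap,
      IsLocalRing.eq_maximalIdeal (Ideal.isMaximal_comap_of_isIntegral_of_isMaximal' μ hμint Q)]
    exact IsLocalization.AtPrime.comap_maximalIdeal L 𝔪
  haveI : IsLocalRing M := by
    obtain ⟨Q₀, hQ₀⟩ := Ideal.exists_maximal M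
    refine IsLocalRing.of_unique_max_ideal ⟨Q₀, hQ₀, fun Q hQ => ?_⟩
    rw [← IsLocalization.map_under Sm M Q, ← IsLocalization.map_under Sm M Q₀, Ideal.under_def, Ideal.under_def, hmaxL Q hQ, hmaxL Q₀ hQ₀]
  have hnX : EGA4.IsNormalRing (A' ⊗[k] B') :=
    Groth.Agent.S9413.result k A' B'
      (isGeomNormal_of_isAlgClosed A' (Groth.Agent.NeronHDLib.isNormalRing_of_isIntegrallyClosed A'))
      (Groth.Agent.NeronHDLib.isNormalRing_of_isIntegrallyClosed B')
  have hnM : EGA4.IsNormalRing M := Groth.Agent.FlatLoc6.isNormalRing_of_isLocalization Sm M hnX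
  haveI : IsDomain M := Groth.Agent.FormCat.isDomain_of_isNormalRing_local M hnM
  haveI : IsIntegrallyClosed M := isIntegrallyClosed_of_isNormalRing_local M hnM
  -- the quotient
  have hT : Submonoid.map (algebraMap (A ⊗[k] B) (A' ⊗[k] B')) 𝔪.primeCompl = Sm := rfl
  have hI : RingHom.ker μ = (RingHom.ker (algebraMap (A ⊗[k] B) (A' ⊗[k] B'))).map (algebraMap (A ⊗[k] B) L) :=
    IsLocalization.ker_map (S := L) M (algebraMap (A ⊗[k] B) (A' ⊗[k] B')) hT
  rw [← Ideal.map_map, ← hI]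
  set I := RingHom.ker μ
  haveI : I.IsPrime := RingHom.ker_isPrime μ
  have hIm : I ≤ maximalIdeal L := le_maximalIdeal (Ideal.IsPrime.ne_top inferInstance)
  letI : Algebra (L ⧸ I) M := (RingHom.kerLift μ).toAlgebra
  haveI : Algebra.IsIntegral (L ⧸ I) M := ⟨fun x => by
    obtain ⟨p, hp, hp0⟩ := hμint x
    refine ⟨p.map (Ideal.Quotient.mk I), hp.map _, ?_⟩
    rw [Polynomial.eval₂_map]
    exact hp0⟩
  haveI : IsLocalRing (L ⧸ I) := IsLocalRing.of_surjective' _ Ideal.Quotient.mk_surjective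
  have hgne : ∀ (b : A) (d : B), fA b ≠ 0 → fB d ≠ 0 → algebraMap (A' ⊗[k] B') M ((algebraMap (A ⊗[k] B) (A' ⊗[k] B')) (b ⊗ₜ[k] d)) ≠ 0 := by
    intro b d hb hd
    have e : (algebraMap (A ⊗[k] B) (A' ⊗[k] B')) (b ⊗ₜ[k] d) = (fA b ⊗ₜ[k] (1 : B')) * ((1 : A') ⊗ₜ[k] fB d) := by simp [hg]
    rw [e, map_mul]
    refine mul_ne_zero (fun h => ?_) (fun h => ?_)
    · obtain ⟨t, ht⟩ := (IsLocalization.map_eq_zero_iff Sm M _).1 h
      exact h0Sm (eq_zero_of_mul_tmul_one hb ht ▸ t.2)
    · obtain ⟨t, ht⟩ := (IsLocalization.map_eq_zero_iff Sm M _).1 h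
      have ht' := congrArg (Algebra.TensorProduct.comm k A' B') ht
      rw [map_mul, map_zero, Algebra.TensorProduct.comm_tmul] at ht'
      have := eq_zero_of_mul_tmul_one hd ht'
      rw [map_eq_zero_iff _ (Algebra.TensorProduct.comm k A' B').injective] at this
      exact h0Sm (this ▸ t.2)
  obtain ⟨-, hg⟩ := unibranch_of_normal_extension (C := L ⧸ I) (M := M) (RingHom.kerLift_injective μ) fun z => by
    obtain ⟨x, ⟨_, s, hs, rfl⟩, rfl⟩ := IsLocalization.exists_mk'_eq Sm z
    obtain ⟨b, d, w, hb, hd, hw⟩ := exists_denom fA fB hfA hfB x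
    refine ⟨Ideal.Quotient.mk I (algebraMap _ L w), Ideal.Quotient.mk I (algebraMap _ L (b ⊗ₜ[k] d * s)), ?_, ?_⟩
    · rw [Ne, Ideal.Quotient.eq_zero_iff_mem, RingHom.mem_ker, hμ1, map_mul, map_mul, mul_eq_zero]
      exact not_or.2 ⟨hgne b d hb hd, (IsLocalization.map_units M (⟨(algebraMap (A ⊗[k] B) (A' ⊗[k] B')) s, s, hs, rfl⟩ : Sm)).ne_zero⟩
    · show μ (algebraMap _ L _) * _ = μ (algebraMap _ L w)
      rw [hμ1, hμ1, map_mul, map_mul, mul_assoc,
        mul_comm (algebraMap (A' ⊗[k] B') M ((algebraMap (A ⊗[k] B) (A' ⊗[k] B')) s))]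
      erw [IsLocalization.mk'_spec]
      rw [← map_mul]
      exact congrArg _ hw
  have hgu : CAlg2.IsGeomUnibranch (L ⧸ I) := hg fun z => by
    obtain ⟨x, ⟨_, s, hs, rfl⟩, rfl⟩ := IsLocalization.exists_mk'_eq Sm z
    obtain ⟨c, hc⟩ := hscal x
    refine ⟨0, Ideal.Quotient.mk I (IsLocalization.mk' L (algebraMap k (A ⊗[k] B) c) ⟨s, hs⟩), ?_⟩
    rw [pow_zero, pow_one]
    show IsLocalization.mk' M x _ - μ (IsLocalization.mk' L _ _) ∈ maximalIdeal M
    have hc' : algebraMap (A' ⊗[k] B') M (x - algebraMap k _ c) ∈ maximalIdeal M := by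
      rwa [← Ideal.mem_comap, hmaxL _ (maximalIdeal.isMaximal M)]
    refine (Ideal.unit_mul_mem_iff_mem _ (IsLocalization.map_units M (⟨(algebraMap (A ⊗[k] B) (A' ⊗[k] B')) s, s, hs, rfl⟩ : Sm))).1 ?_
    rw [mul_comm, sub_mul, hμ2]
    erw [IsLocalization.mk'_spec, IsLocalization.mk'_spec]
    rw [← map_sub, show (algebraMap (A ⊗[k] B) (A' ⊗[k] B')) (algebraMap k (A ⊗[k] B) c) = algebraMap k (A' ⊗[k] B') c from
      (Algebra.TensorProduct.map fA fB).commutes c]
    exact hc'
  haveI : IsDomain (L ⧸ I) := inferInstance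
  have hJm : I.map (algebraMap L C) ≤ maximalIdeal C :=
    Ideal.map_le_iff_le_comap.2 fun a ha => map_nonunit _ a (hIm ha)
  haveI : Nontrivial (C ⧸ I.map (algebraMap L C)) :=
    Ideal.Quotient.nontrivial_iff.2 (ne_top_of_le_ne_top (maximalIdeal.isMaximal C).ne_top hJm)
  haveI : IsLocalRing (C ⧸ I.map (algebraMap L C)) := IsLocalRing.of_surjective' _ Ideal.Quotient.mk_surjective
  haveI : IsLocalHom (Ideal.Quotient.mk I) := .of_surjective _ Ideal.Quotient.mk_surjective
  haveI : IsLocalHom (Ideal.Quotient.mk (I.map (algebraMap L C))) :=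
    .of_surjective _ Ideal.Quotient.mk_surjective
  haveI : IsLocalHom (algebraMap (L ⧸ I) (C ⧸ I.map (algebraMap L C))) := isLocalHom_quotient_map L C I
  haveI := isStrictHenselization_quotient (R := L) (S := C) I
  haveI := (Groth.Agent.S2750.result (L ⧸ I) (C ⧸ I.map (algebraMap L C))).1 ⟨inferInstance, hgu⟩
  refine ⟨(Ideal.Quotient.isDomain_iff_prime _).1 inferInstance, fun b d hbd => ?_⟩
  haveI := (Groth.Agent.Hensel.isHenzLike_of_isStrictHenselization L C).faithfullyFlat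
  by_contra h
  rw [not_or] at h
  rw [← Ideal.mem_comap, Ideal.comap_map_eq_self_of_faithfullyFlat, RingHom.mem_ker, hμ1] at hbd
  exact hgne b d h.1 h.2 hbd

end Groth.Agent.H1Branch
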